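import Cfsg.Agent.Lib.OmegaEight.ExtRigid
import Cfsg.Agent.Lib.GeomClasses.OrthCplxField

/-!
The normaliser of a quadratic self-adjoint field on an eight-space of minus type is maximal in `Ω`.
-/

set_option autoImplicit false
set_option linter.unusedSectionVars false

namespace CfsgLib.OmegaEight.Ext

open Matrix QuadraticMap CfsgLib.Orth CfsgLib.GeomClasses CfsgLib.GeomClasses.OrthEich

variable {ι : Type} [Fintype ι] [DecidableEq ι] {F : Type*} [Field F] [Fintype F]
  {q : QuadraticForm F (ι → F)}

/-- Splitting an Eichler element whose centre moves along an orthogonal singular vector. -/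
theorem eich_shift {u e a : ι → F} (hu : q u = 0) (he : q e = 0) (hue : polar q u e = 0)
    (hua : polar q u a = 0) (hea : polar q e a = 0) (s : F) :
    eich q (u + s • e) a = eich q u a * eich q e (s • a) * eich q u ((-(s * q a)) • e) := by
  refine ext_app fun x => ?_
  have huu : polar q u u = 0 := by rw [polar_self', hu, mul_zero]
  have hee : polar q e e = 0 := by rw [polar_self', he, mul_zero]
  have heu : polar q e u = 0 := by rw [polar_comm, hue]
  have hau : polar q a u = 0 := by rw [polar_comm, hua]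
  have h1 : q (u + s • e) = 0 := by
    rw [QuadraticMap.map_add ⇑q, QuadraticMap.map_smul, polar_smul_right, hu, he, hue]; simp
  have h2 : polar q (u + s • e) a = 0 := by rw [polar_add_left, polar_smul_left, hua, hea]; simp
  have h3 : polar q e (s • a) = 0 := by rw [polar_smul_right, hea, smul_zero]
  have h4 : polar q u ((-(s * q a)) • e) = 0 := by rw [polar_smul_right, hue, smul_zero]
  rw [app_mul, app_mul, app_eich h1 h2, app_eich hu h4, app_eich he h3, app_eich hu hua]
  simp only [polar_add_left, polar_add_right, polar_smul_left, polar_smul_right, QuadraticMap.map_smul, smul_eq_mul,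
    huu, hee, heu, hau, he, hue, hua, hea, polar_self']
  match_scalars <;> ring

/-- Eichler elements with centres in a singular plane, read with the other centre. -/
theorem eich_plane {u e : ι → F} (hu : q u = 0) (he : q e = 0) (hue : polar q u e = 0) (t : F) :
    eich q u (t • e) = eich q e (-(t • u)) := by
  have h : q (t • e) = 0 := by rw [QuadraticMap.map_smul, he, smul_zero]
  rw [OrthPair.eich_swap hu h (by rw [polar_smul_right, hue, smul_zero]),
    OrthEich.eich_smul_left he (by rw [polar_neg_right, polar_comm, hue, neg_zero]), smul_neg]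

variable {E : (ι → F) →ₗ[F] (ι → F)} {d : F} (D : Data q E d)
include D

/-- The normaliser is proper. -/
theorem Data.exists_not_norm : ∃ g ∈ commutator (O q), g ∉ extNorm q E := by
  obtain ⟨e, -, he0, he⟩ := D.exists_ksing (X := ⊤) (by
    rw [finrank_top, Module.finrank_fintype_fun_eq_card, D.card]; norm_num)
  obtain ⟨a, ha, ha'⟩ := exists_polar_eq_zero_one D.nondeg (D.E_not_mem he0)
  have hee : polar q e e = 0 := by rw [polar_self', he.1, mul_zero]
  refine ⟨eich q e a, eich_mem D.nondeg D.seven he.1 ha, fun hN => ?_⟩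
  obtain ⟨s, hs, hE⟩ := hN
  have h := hE e
  rw [app_eich he.1 ha, app_eich he.1 ha, hee, ha, ha', polar_comm (f := ⇑q) (E e) e, he.2] at h
  simp only [zero_smul, neg_zero, zero_sub, add_zero, mul_zero] at h
  have h2 : s • e + (1 - s) • E e = 0 := by
    linear_combination (norm := module) h
  obtain ⟨h3, -⟩ := D.comb_ne he0 h2
  rcases hs with rfl | rfl <;> simp at h3

variable {M : Subgroup (O q)} (hle : extNorm q E ⊓ commutator (O q) ≤ M)
include hle

set_option maxHeartbeats 800000 in
/-- An element of `M` fixing `e` and tearing its line apart. -/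
theorem Data.exists_corner {g : O q} (hg : g ∈ M) {e : ι → F} (he : KSing q E e)
    (hc1 : polar q (app g e) (E (app g e)) ≠ 0) :
    ∃ c ∈ M, app c e = e ∧ polar q (E e) (app c (E e)) ≠ 0 := by
  set y := app g e with hy
  set y₂ := app g (E e) with hy₂
  set c₁ := polar q y (E y) with hc₁
  have he0 : e ≠ 0 := fun h => hc1 (by rw [hc₁, hy, h, map_zero, polar_zero_left])
  have hqy : q y = 0 := by rw [hy, Q_app, he.1]
  have hyy : polar q y y = 0 := by rw [polar_self', hqy, mul_zero]
  have hEyy : polar q (E y) (E y) = 0 := by rw [D.adj', hyy, mul_zero]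
  have hqy₂ : q y₂ = 0 := by rw [hy₂, Q_app, D.q_E, he.1, mul_zero]
  have hyy₂ : polar q y y₂ = 0 := by rw [hy, hy₂, polar_app, he.2]
  set X := perp q ![y, E y] with hXdef
  have hXE : ∀ x ∈ X, E x ∈ X := fun x hx => D.perp_pair_stable y hx
  have hX6 := D.le_finrank_perp ![y, E y]
  -- the projection to `X`
  have hpr : ∀ x, x - (polar q (E y) x / c₁) • y - (polar q y x / c₁) • E y ∈ X := fun x => by
    rw [hXdef, perp_two]
    constructor
    · rw [polar_sub_right, polar_sub_right, polar_smul_right, polar_smul_right, hyy, ← hc₁, smul_eq_mul, smul_eq_mul,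
        mul_zero, sub_zero, div_mul_cancel₀ _ hc1, sub_self]
    · rw [polar_sub_right, polar_sub_right, polar_smul_right, polar_smul_right, hEyy,
        polar_comm (f := ⇑q) (E y) y, ← hc₁, smul_eq_mul, smul_eq_mul, mul_zero, sub_zero,
        div_mul_cancel₀ _ hc1, sub_self]
  set w := y₂ - (polar q (E y) y₂ / c₁) • y with hw
  have hwX : w ∈ X := by
    have := hpr y₂
    rwa [hyy₂, zero_div, zero_smul, sub_zero] at this
  have hw0 : w ≠ 0 := fun h => by
    have := congrArg (app g⁻¹) (sub_eq_zero.1 h)
    rw [map_smul, hy, hy₂, app_inv_app, app_inv_app] at this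
    exact D.E_not_mem he0 (Submodule.mem_span_singleton.2 ⟨_, this.symm⟩)
  have hsame : ∀ x ∈ X, polar q y₂ x = polar q w x := fun x hx => by
    rw [hw, polar_sub_left, polar_smul_left, (perp_two.1 hx).1, smul_zero, sub_zero]
  -- a vector of `X` singular for both forms and pairing with `w`
  obtain ⟨p, hpX, hp, hwp⟩ : ∃ p ∈ X, KSing q E p ∧ (polar q w p ≠ 0 ∨ polar q w (E p) ≠ 0) := by
    obtain ⟨p, hpX, hp0, hp⟩ := D.exists_ksing (X := X) (by rw [hXdef]; omega)
    by_contra hc
    push Not at hc
    have hpair : ∀ z ∈ X, KSing q E z → polar q z w = 0 ∧ polar q (E z) w = 0 := fun z hz hz' =>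
      ⟨by rw [polar_comm]; exact (hc z hz hz').1, by rw [polar_comm]; exact (hc z hz hz').2⟩
    obtain ⟨v, hv⟩ := exists_polar_eq_one D.nondeg hp0
    obtain ⟨f, hfX, hf, hfp, hfEp⟩ := D.exists_partnerK hXE hp hpX (hpr v) (Or.inl (by
      rw [polar_comm, polar_sub_right, polar_sub_right, polar_smul_right, polar_smul_right,
        polar_comm (f := ⇑q) p y, polar_comm (f := ⇑q) p (E y), (perp_two.1 hpX).1, (perp_two.1 hpX).2, hv]
      simp))
    obtain ⟨z, hz⟩ := exists_polar_eq_one D.nondeg hw0
    have hzX := hpr z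
    obtain ⟨a, ha, hae⟩ := D.exists_proj hp hf hfp hfEp (z - (polar q (E y) z / c₁) • y - (polar q y z / c₁) • E y)
    set z' := z - (polar q (E y) z / c₁) • y - (polar q y z / c₁) • E y with hz'
    have haX : a ∈ X := by
      have : a = z' - polar q z' (E f) • p - polar q z' f • E p - polar q z' (E p) • f - polar q z' p • E f := by
        linear_combination (norm := module) -hae
      rw [this]
      exact X.sub_mem (X.sub_mem (X.sub_mem (X.sub_mem hzX (X.smul_mem _ hpX)) (X.smul_mem _ (hXE p hpX)))
        (X.smul_mem _ hfX)) (X.smul_mem _ (hXE f hfX))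
    have hwa : polar q w a = 1 := by
      have h1 : polar q w z' = 1 := by
        rw [hz', polar_sub_right, polar_sub_right, polar_smul_right, polar_smul_right, hz,
          polar_comm (f := ⇑q) w y, polar_comm (f := ⇑q) w (E y), (perp_two.1 hwX).1, (perp_two.1 hwX).2]
        simp
      rw [hae] at h1
      simp only [polar_add_right, polar_smul_right, polar_comm (f := ⇑q) w p, polar_comm (f := ⇑q) w (E p),
        polar_comm (f := ⇑q) w f, polar_comm (f := ⇑q) w (E f), (hpair p hpX hp).1, (hpair p hpX hp).2,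
        (hpair f hfX hf).1, (hpair f hfX hf).2, smul_zero, add_zero] at h1
      exact h1
    rw [perp_four] at ha
    obtain ⟨h1, h2, h3, h4⟩ := ha
    have hR := D.rootK_partner hp h1 h2 hfp hfEp h3 (by rw [← D.adj, h4])
    have h5 := (hc _ (show app (rootK q E p a) f ∈ X by
      rw [hR]
      exact X.add_mem (X.add_mem (X.add_mem hfX haX) (X.smul_mem _ hpX)) (X.smul_mem _ (hXE p hpX)))
      (D.rootK_ksing hp h1 h2 hf)).1
    rw [hR, polar_add_right, polar_add_right, polar_add_right, polar_smul_right, polar_smul_right, hwa,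
      polar_comm (f := ⇑q) w f, (hpair f hfX hf).1, polar_comm (f := ⇑q) w p, (hpair p hpX hp).1,
      polar_comm (f := ⇑q) w (E p), (hpair p hpX hp).2] at h5
    simp at h5
  obtain ⟨v, hv, hval⟩ := D.exists_pencil (Y := perp q ![y, E y, p, E p])
    (fun x hx => D.perp_quad_stable y p hx) (by have := D.le_finrank_perp ![y, E y, p, E p]; omega)
    (α := polar q y₂ p) (β := polar q y₂ (E p)) (by rwa [hsame p hpX, hsame _ (hXE p hpX)])
  rw [perp_four] at hv
  obtain ⟨hv1, hv2, hv3, hv4⟩ := hv
  have hz := hle (D.rootK_norm hp hv3 hv4)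
  have hpy := perp_two.1 hpX
  have hzy : app (rootK q E p v) y = y := by
    rw [D.app_rootK hp hv3 hv4, hv1, hpy.1, show polar q y (E p) = 0 by rw [← D.adj]; exact hpy.2,
      show polar q y (E v) = 0 by rw [← D.adj]; exact hv2]
    simp
  refine ⟨g⁻¹ * rootK q E p v * g, M.mul_mem (M.mul_mem (M.inv_mem hg) hz) hg, ?_, ?_⟩
  · rw [app_mul, app_mul, ← hy, hzy, hy, app_inv_app]
  · rw [app_mul, app_mul, ← polar_app g, app_app_inv, ← hy₂, D.polar_rootK hp hv3 hv4, hqy₂]
    intro h
    apply hval
    linear_combination -h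

omit D hle in
/-- The isometries fixing `e` which lie in `M` up to an Eichler element with centre `e`. -/
noncomputable def upTo (M : Subgroup (O q)) (e : ι → F) (he : q e = 0) : Subgroup (O q) where
  carrier := {h | app h e = e ∧ ∃ k, polar q e k = 0 ∧ h * eich q e k ∈ M}
  one_mem' := ⟨by simp, 0, polar_zero_right _ _, by
    rw [← zero_smul F e, eich_smul_self he, one_mul]; exact M.one_mem⟩
  mul_mem' := by
    rintro g h ⟨hg, k, hk, hgk⟩ ⟨hh, l, hl, hhl⟩
    have hh' : app h⁻¹ e = e := by conv_lhs => rw [← hh, app_inv_app]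
    have hk' : polar q e (app h⁻¹ k) = 0 := by rw [← polar_app h, hh, app_app_inv, hk]
    refine ⟨by rw [app_mul, hh, hg], app h⁻¹ k + l, by rw [polar_add_right, hk', hl, add_zero], ?_⟩
    have e1 : h⁻¹ * eich q e k * h = eich q e (app h⁻¹ k) := by
      have := eich_conj he hk h⁻¹
      rwa [inv_inv, hh'] at this
    have := M.mul_mem hgk hhl
    rwa [← eich_add he hk' hl, ← e1, show g * h * (h⁻¹ * eich q e k * h * eich q e l) =
      g * eich q e k * (h * eich q e l) by group]
  inv_mem' := by
    rintro g ⟨hg, k, hk, hgk⟩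
    have hg' : app g⁻¹ e = e := by conv_lhs => rw [← hg, app_inv_app]
    have hk' : polar q e (app g k) = 0 := by
      have := polar_app g e k
      rwa [hg, hk] at this
    refine ⟨hg', -app g k, by rw [polar_neg_right, hk', neg_zero], ?_⟩
    have hnk : polar q e (-k) = 0 := by rw [polar_neg_right, hk, neg_zero]
    have e1 : g * eich q e (-k) * g⁻¹ = eich q e (-app g k) := by rw [eich_conj he hnk, hg, map_neg]
    have e2 : eich q e (-k) = (eich q e k)⁻¹ := by
      refine eq_inv_of_mul_eq_one_left ?_
      rw [eich_add he hnk hk, neg_add_cancel, ← zero_smul F e, eich_smul_self he]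
    have := M.inv_mem hgk
    rwa [← e1, e2, show g⁻¹ * (g * (eich q e k)⁻¹ * g⁻¹) = (g * eich q e k)⁻¹ by group]

omit D hle in
theorem mem_upTo {e : ι → F} (he : q e = 0) {h : O q} :
    h ∈ upTo M e he ↔ app h e = e ∧ ∃ k, polar q e k = 0 ∧ h * eich q e k ∈ M := Iff.rfl

omit D hle in
theorem upTo_of_mem {e : ι → F} (he : q e = 0) {h : O q} (h1 : app h e = e) (h2 : h ∈ M) : h ∈ upTo M e he :=
  (mem_upTo he).2 ⟨h1, 0, polar_zero_right _ _, by rw [← zero_smul F e, eich_smul_self he, mul_one]; exact h2⟩

omit D hle in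
theorem eich_mem_upTo {e : ι → F} (he : q e = 0) {k : ι → F} (hk : polar q e k = 0) : eich q e k ∈ upTo M e he := by
  refine (mem_upTo he).2 ⟨?_, -k, by rw [polar_neg_right, hk, neg_zero], ?_⟩
  · rw [app_eich he hk, polar_self', he, hk]; simp
  · rw [eich_add he hk (by rw [polar_neg_right, hk, neg_zero]), add_neg_cancel, ← zero_smul F e, eich_smul_self he]
    exact M.one_mem

set_option maxHeartbeats 1600000 in
/-- A torn line gives a full centre. -/
theorem Data.full_of_corner {e : ι → F} (he : KSing q E e) {c : O q} (hcM : c ∈ M) (hce : app c e = e)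
    (hγ : polar q (E e) (app c (E e)) ≠ 0) : Full M e := by
  set G := upTo M e he.1
  set x := app c (E e) with hxdef
  set γ := polar q (E e) x with hγdef
  have he0 : e ≠ 0 := fun h => hγ (by rw [hγdef, h, map_zero, polar_zero_left])
  have hee : polar q e e = 0 := by rw [polar_self', he.1, mul_zero]
  have hEE : polar q (E e) (E e) = 0 := by rw [D.adj', hee, mul_zero]
  have hEee : polar q (E e) e = 0 := by rw [polar_comm, he.2]
  have hqE : q (E e) = 0 := by rw [D.q_E, he.1, mul_zero]
  have hqx : q x = 0 := by rw [hxdef, Q_app, hqE]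
  have hxx : polar q x x = 0 := by rw [polar_self', hqx, mul_zero]
  have hex : polar q e x = 0 := by
    have := polar_app c e (E e)
    rwa [hce, he.2] at this
  have hce' : app c⁻¹ e = e := by conv_lhs => rw [← hce, app_inv_app]
  -- the second centre
  have hsec : ∀ a, polar q e a = 0 → polar q (E e) a = 0 → eich q (E e) a ∈ G := by
    intro a ha ha'
    set t := polar q a (E a) / 2
    have heEa : polar q e (E a) = 0 := by rw [← D.adj, ha']
    have hEet : polar q (E e) (t • e) = 0 := by rw [polar_smul_right, hEee, smul_zero]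
    have h1 : rootK q E e a ∈ G := by
      refine upTo_of_mem he.1 ?_ (hle (D.rootK_norm he ha ha'))
      rw [D.app_rootK he ha ha', hee, he.2, heEa, ha]
      simp
    have h2 : eich q (E e) (t • e) ∈ G := by
      rw [eich_plane hqE he.1 hEee]
      exact eich_mem_upTo he.1 (by rw [polar_neg_right, polar_smul_right, he.2, smul_zero, neg_zero])
    have h3 := G.mul_mem (G.mul_mem (G.inv_mem (eich_mem_upTo (M := M) he.1 heEa)) h1) (G.inv_mem h2)
    rwa [rootK, show (eich q e (E a))⁻¹ * (eich q e (E a) * eich q (E e) a * eich q (E e) (t • e)) *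
      (eich q (E e) (t • e))⁻¹ = eich q (E e) a by group] at h3
  have hcG : c ∈ G := upTo_of_mem he.1 hce hcM
  have hx' : ∀ a, polar q e a = 0 → polar q x a = 0 → eich q x a ∈ G := by
    intro a ha hxa
    have h1 : polar q e (app c⁻¹ a) = 0 := by
      have := polar_app c⁻¹ e a
      rwa [hce', ha] at this
    have h2 : polar q (E e) (app c⁻¹ a) = 0 := by
      have := polar_app c⁻¹ x a
      rwa [hxdef, app_inv_app, ← hxdef, hxa] at this
    have := G.mul_mem (G.mul_mem hcG (hsec _ h1 h2)) (G.inv_mem hcG)
    rwa [eich_conj hqE h2, app_app_inv, ← hxdef] at this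
  -- the auxiliary vectors
  obtain ⟨w, hw⟩ := exists_polar_eq_one D.nondeg he0
  obtain ⟨u, huP, hu0, hqu⟩ := OrthTools.exists_singular D.nondeg (perp q ![e, E e, x, w])
    (by have := D.le_finrank_perp ![e, E e, x, w]; omega)
  rw [perp_four] at huP
  obtain ⟨heu, hEeu, hxu, hwu⟩ := huP
  have hue' : u ∉ Submodule.span F ({e} : Set (ι → F)) := fun h => by
    obtain ⟨t, rfl⟩ := Submodule.mem_span_singleton.1 h
    rw [polar_smul_right, polar_comm, hw, smul_eq_mul, mul_one] at hwu
    exact hu0 (by rw [hwu, zero_smul])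
  have hP4 := D.le_finrank_perp ![e, E e, x, u]
  set P := perp q ![e, E e, x, u] with hPdef
  obtain ⟨b₁, hb₁P, hb₁⟩ : ∃ b ∈ P, q b ≠ 0 := by
    by_contra hc
    push Not at hc
    have := D.minus P hc
    omega
  have hbP : ∀ b ∈ P, polar q e b = 0 ∧ polar q (E e) b = 0 ∧ polar q x b = 0 ∧ polar q u b = 0 := fun b hb =>
    perp_four.1 hb
  obtain ⟨b, hbPm, hqb, hEu⟩ : ∃ b ∈ P, q b ≠ 0 ∧ E u ∉ Submodule.span F (Set.range ![e, E e, u, b]) := by
    have hkey : ∀ b ∈ P, (∀ s : F, polar q (E u) b₁ = polar q (s • b) b₁ → s = 0) →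
        E u ∉ Submodule.span F (Set.range ![e, E e, u, b]) := by
      intro b hb hs h
      obtain ⟨r, hr⟩ := (Submodule.mem_span_range_iff_exists_fun F).1 h
      simp only [Fin.sum_univ_four, Matrix.cons_val_zero, Matrix.cons_val_one, Matrix.cons_val] at hr
      obtain ⟨h1, h2, -, h4⟩ := hbP b₁ hb₁P
      have hr3 : r 3 = 0 := by
        refine hs _ ?_
        rw [← hr]
        simp [polar_add_left, polar_smul_left, h1, h2, h4]
      rw [hr3, zero_smul, add_zero] at hr
      have hEr := congrArg E hr
      simp only [map_add, map_smul, D.sq] at hEr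
      have h5 : (d - r 2 * r 2) • u = (r 0 + r 2 * r 1) • E e + (r 1 * d + r 2 * r 0) • e := by
        have e1 : d • u = r 0 • E e + r 1 • d • e + r 2 • (r 0 • e + r 1 • E e + r 2 • u) := by rw [hr, ← hEr]
        linear_combination (norm := module) e1
      have h6 := congrArg (fun z => polar q x z) h5
      simp only [polar_add_right, polar_smul_right, smul_eq_mul, hxu, polar_comm (f := ⇑q) x e, hex,
        polar_comm (f := ⇑q) x (E e), ← hγdef, mul_zero, add_zero] at h6
      rw [(mul_eq_zero.1 h6.symm).resolve_right hγ, zero_smul, zero_add] at h5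
      refine hue' ((Submodule.smul_mem_iff _ (sub_ne_zero.2 (Ne.symm (D.nonsq (r 2))))).1 ?_)
      rw [h5]
      exact Submodule.smul_mem _ _ (Submodule.mem_span_singleton_self e)
    by_cases h0 : polar q (E u) b₁ = 0
    · refine ⟨b₁, hb₁P, hb₁, hkey b₁ hb₁P fun s hs => ?_⟩
      rw [h0, polar_smul_left, polar_self', smul_eq_mul] at hs
      exact (mul_eq_zero.1 hs.symm).resolve_right (mul_ne_zero D.two hb₁)
    · obtain ⟨b, hb, hbb, hqb⟩ : ∃ b ∈ P, polar q b₁ b = 0 ∧ q b ≠ 0 := by
        by_contra hc
        push Not at hc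
        set P' := P ⊓ OrthTools.orth q (Submodule.span F ({b₁} : Set (ι → F))) with hP'
        have h3 := OrthTools.finrank_inf_orth D.nondeg P b₁
        have hnot : E e ∉ P' := fun h => hγ (by
          rw [hγdef, polar_comm]; exact (hbP _ (OrthTools.mem_inf_orth h).1).2.2.1)
        have h4 := D.minus (P' ⊔ Submodule.span F ({E e} : Set (ι → F))) fun z hz => by
          obtain ⟨m, hm, n, hn, rfl⟩ := Submodule.mem_sup.1 hz
          obtain ⟨t, rfl⟩ := Submodule.mem_span_singleton.1 hn
          obtain ⟨hmP, hmb⟩ := OrthTools.mem_inf_orth hm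
          rw [QuadraticMap.map_add ⇑q, hc m hmP hmb, QuadraticMap.map_smul, hqE, polar_smul_right,
            polar_comm (f := ⇑q) m (E e), (hbP m hmP).2.1]
          simp
        have h5 := Submodule.finrank_lt_finrank_of_lt (show P' < P' ⊔ Submodule.span F ({E e} : Set (ι → F)) from
          lt_of_le_of_ne le_sup_left fun h => hnot (h ▸ Submodule.mem_sup_right (Submodule.mem_span_singleton_self _)))
        rw [hP'] at h5 h4
        omega
      refine ⟨b, hb, hqb, hkey b hb fun s hs => absurd ?_ h0⟩
      rw [hs, polar_smul_left, polar_comm, hbb, smul_zero]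
  obtain ⟨heb, hEeb, hxb, hub⟩ := hbP b hbPm
  obtain ⟨a, ha, haEu⟩ := OrthSubspace.exists_orth_pairing D.nondeg D.seven hEu
  change a ∈ perp q _ at ha
  rw [perp_four] at ha
  obtain ⟨hea, hEea, hua, hba⟩ := ha
  -- the Eichler element `h`
  set h := eich q u b with hhdef
  have hhG : h ∈ G := by
    set s := γ⁻¹ with hs
    have hsb : polar q (E e) (s • b) = 0 := by rw [polar_smul_right, hEeb, smul_zero]
    have hesb : polar q e (s • b) = 0 := by rw [polar_smul_right, heb, smul_zero]
    have hux : polar q u x = 0 := by rw [polar_comm, hxu]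
    have h1 : eich q u x ∈ G := by
      rw [OrthPair.eich_swap hqu hqx hux]
      exact hx' _ (by rw [polar_neg_right, heu, neg_zero]) (by rw [polar_neg_right, hxu, neg_zero])
    have h2 := G.mul_mem (G.mul_mem (G.mul_mem (hsec _ hesb hsb) h1) (G.inv_mem (hsec _ hesb hsb))) (G.inv_mem h1)
    have hsu : app (eich q (E e) (s • b)) u = u := by
      rw [app_eich hqE hsb, polar_comm (f := ⇑q) u (E e), hEeu, polar_smul_right, hub]
      simp
    have hsx : app (eich q (E e) (s • b)) x = x + b + (-(q b / γ)) • E e := by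
      rw [app_eich hqE hsb, polar_comm (f := ⇑q) x (E e), ← hγdef, polar_smul_right, hxb, QuadraticMap.map_smul,
        hs, smul_smul, mul_inv_cancel₀ hγ, one_smul, smul_zero, neg_zero, zero_sub, smul_eq_mul]
      congr 2
      field_simp
    rw [eich_conj hqu hux, hsu, hsx] at h2
    have hu1 : polar q u (b + (-(q b / γ)) • E e) = 0 := by
      rw [polar_add_right, polar_smul_right, hub, polar_comm (f := ⇑q) u (E e), hEeu, smul_zero, add_zero]
    rw [add_assoc, ← eich_add hqu hux hu1, eich_add hqu hux hu1, add_comm x, ← eich_add hqu hu1 hux,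
      mul_inv_cancel_right] at h2
    have h3 : eich q u ((q b / γ) • E e) ∈ G := by
      rw [eich_plane hqu hqE (by rw [polar_comm, hEeu])]
      exact hsec _ (by rw [polar_neg_right, polar_smul_right, heu, smul_zero, neg_zero])
        (by rw [polar_neg_right, polar_smul_right, hEeu, smul_zero, neg_zero])
    have h4 := G.mul_mem h2 h3
    rwa [eich_add hqu hu1 (by rw [polar_smul_right, polar_comm, hEeu, smul_zero]),
      show b + (-(q b / γ)) • E e + (q b / γ) • E e = b by module, ← hhdef] at h4
  obtain ⟨hhe, k, hk, hm⟩ := (mem_upTo he.1).1 hhG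
  -- an element of the kernel
  set m := h * eich q e k with hmdef
  have heEa : polar q e (E a) = 0 := by rw [← D.adj, hEea]
  have hhv : ∀ z, polar q u z = 0 → polar q b z = 0 → app h z = z := fun z hz1 hz2 => by
    rw [hhdef, app_eich hqu hub, polar_comm (f := ⇑q) z u, hz1, polar_comm (f := ⇑q) z b, hz2]
    simp
  have hme : app m e = e := by
    rw [hmdef, app_mul, app_eich he.1 hk, hee, hk]
    simp [hhe]
  set κ := polar q (E e) k with hκ
  have hmE : app m (E e) = E e + (-κ) • e := by
    rw [hmdef, app_mul, app_eich he.1 hk, hEee, hhdef, ← hκ]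
    rw [zero_smul, add_zero, mul_zero, sub_zero, map_add, map_smul, ← hhdef, hhe,
      hhv _ (by rw [polar_comm]; exact hEeu) (by rw [polar_comm]; exact hEeb)]
  have hma : app m a = a + (-polar q a k) • e := by
    rw [hmdef, app_mul, app_eich he.1 hk, polar_comm (f := ⇑q) a e, hea, zero_smul, add_zero, mul_zero, sub_zero,
      map_add, map_smul, hhe, hhv a hua hba]
  have hmEa : app m (E a) = app h (E a) + (-polar q (E a) k) • e := by
    rw [hmdef, app_mul, app_eich he.1 hk, polar_comm (f := ⇑q) (E a) e, heEa, zero_smul, add_zero, mul_zero, sub_zero,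
      map_add, map_smul, hhe]
  set t := polar q a (E a) / 2 with ht
  set κ' := -polar q a k
  obtain ⟨v, hev, hvM, hbv⟩ : ∃ v, polar q e v = 0 ∧ eich q e v ∈ M ∧ polar q b v ≠ 0 := by
    have hR := hle (D.rootK_norm he hea hEea)
    have h1 := M.mul_mem (M.mul_mem (M.mul_mem hm hR) (M.inv_mem hm)) (M.inv_mem hR)
    have heh : polar q e (app h (E a)) = 0 := by
      have := polar_app h e (E a)
      rwa [hhe, heEa] at this
    have c1 : eich q e (app h (E a) + (-polar q (E a) k) • e) = eich q e (app h (E a)) := by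
      rw [← eich_add he.1 heh (by rw [polar_smul_right, hee, smul_zero]), eich_smul_self he.1, mul_one]
    have hu' : q (E e + (-κ) • e) = 0 := by rw [← hmE, Q_app, hqE]
    have hue2 : polar q (E e + (-κ) • e) e = 0 := by rw [polar_add_left, polar_smul_left, hEee, hee]; simp
    have hua2 : polar q (E e + (-κ) • e) a = 0 := by rw [polar_add_left, polar_smul_left, hEea, hea]; simp
    have c2 : ∀ r : F, eich q (E e + (-κ) • e) (r • e) = eich q e (-(r • E e)) := fun r => by
      rw [eich_plane hu' he.1 hue2, smul_add, neg_add, smul_smul, ← neg_smul (r * -κ) e,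
        ← eich_add he.1 (by rw [polar_neg_right, polar_smul_right, he.2, smul_zero, neg_zero])
          (by rw [polar_smul_right, hee, smul_zero]), eich_smul_self he.1, mul_one]
    have c3 : app m (t • e) = t • e := by rw [map_smul, hme]
    have e1 : m * rootK q E e a * m⁻¹ = m * eich q e (E a) * m⁻¹ * (m * eich q (E e) a * m⁻¹) *
        (m * eich q (E e) (t • e) * m⁻¹) := by rw [rootK, ← ht]; group
    rw [e1, eich_conj he.1 heEa, eich_conj hqE hEea, eich_conj hqE (by rw [polar_smul_right, hEee, smul_zero]),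
      hme, hmE, hma, hmEa, c3, c1, ← eich_add hu' hua2 (by rw [polar_smul_right, hue2, smul_zero]),
      eich_shift hqE he.1 hEee hEea hea, c2, c2, rootK, ← ht, eich_plane hqE he.1 hEee,
      eich_plane hqE he.1 hEee] at h1
    -- collect the elements with centre `e`
    set Y := eich q (E e) a with hY
    set z₁ := (-κ) • a with hz1
    set z₂ := -((-(-κ * q a)) • E e) with hz2
    set z₃ := -(κ' • E e) with hz3
    set z₄ := -(t • E e) with hz4
    have hp1 : polar q e z₁ = 0 := by rw [hz1, polar_smul_right, hea, smul_zero]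
    have hp2 : polar q e z₂ = 0 := by rw [hz2, polar_neg_right, polar_smul_right, he.2, smul_zero, neg_zero]
    have hp3 : polar q e z₃ = 0 := by rw [hz3, polar_neg_right, polar_smul_right, he.2, smul_zero, neg_zero]
    have hp23 : polar q e (z₂ + z₃) = 0 := by rw [polar_add_right, hp2, hp3, add_zero]
    set z := z₁ + (z₂ + z₃) with hz
    have hpz : polar q e z = 0 := by rw [hz, polar_add_right, hp1, hp23, add_zero]
    have hnEa : polar q e (-E a) = 0 := by rw [polar_neg_right, heEa, neg_zero]
    have e2 : (eich q e (E a))⁻¹ = eich q e (-E a) := by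
      refine inv_eq_of_mul_eq_one_right ?_
      rw [eich_add he.1 heEa hnEa, add_neg_cancel, ← zero_smul F e, eich_smul_self he.1]
    have hYe : app Y e = e := by
      rw [hY, app_eich hqE hEea, polar_comm (f := ⇑q) e (E e), hEee, hea]
      simp
    have hpYz : polar q e (app Y z) = 0 := by
      have := polar_app Y e z
      rwa [hYe, hpz] at this
    have e3 : Y * (eich q e z₁ * (eich q e z₂ * eich q e z₃)) * Y⁻¹ = eich q e (app Y z) := by
      rw [eich_add he.1 hp2 hp3, eich_add he.1 hp1 hp23, ← hz, eich_conj he.1 hpz, hYe]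
    have h2 : eich q e (app h (E a)) * (Y * (eich q e z₁ * (eich q e z₂ * eich q e z₃)) * Y⁻¹) *
        (eich q e (E a))⁻¹ ∈ M := by
      convert h1 using 1
      group
    rw [e3, e2, eich_add he.1 heh hpYz, eich_add he.1 (by rw [polar_add_right, heh, hpYz, add_zero]) hnEa] at h2
    refine ⟨_, by rw [polar_add_right, polar_add_right, heh, hpYz, hnEa]; simp, h2, ?_⟩
    have hYb : app Y b = b := by
      rw [hY, app_eich hqE hEea, polar_comm (f := ⇑q) b (E e), hEeb, hba]
      simp
    have hbz : polar q b (app Y z) = 0 := by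
      have := polar_app Y b z
      rw [hYb] at this
      rw [this]
      simp [hz, hz1, hz2, hz3, polar_add_right, polar_neg_right, polar_smul_right, hba,
        polar_comm (f := ⇑q) b (E e), hEeb]
    have hhEa : polar q b (app h (E a)) = polar q b (E a) + polar q (E a) u * (2 * q b) := by
      rw [hhdef, app_eich hqu hub, polar_add_right, polar_add_right, polar_smul_right, polar_smul_right,
        polar_self', polar_comm (f := ⇑q) b u, hub]
      simp
    rw [polar_add_right, polar_add_right, hbz, hhEa, polar_neg_right]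
    have hA : polar q (E a) u ≠ 0 := by rw [D.adj]; exact haEu
    intro h0
    exact mul_ne_zero hA (mul_ne_zero D.two hqb) (by linear_combination h0)
  -- the set of admissible second entries
  have hadd : ∀ y z, polar q e y = 0 → polar q e z = 0 → eich q e y ∈ M → eich q e z ∈ M → eich q e (y + z) ∈ M :=
    fun y z hy hz h1 h2 => by rw [← eich_add he.1 hy hz]; exact M.mul_mem h1 h2
  have hsub : ∀ y z, polar q e y = 0 → polar q e z = 0 → eich q e y ∈ M → eich q e z ∈ M → eich q e (y - z) ∈ M :=
    fun y z hy hz h1 h2 => by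
      have h3 : polar q e (y - z) = 0 := by rw [polar_sub_right, hy, hz, sub_zero]
      have := M.mul_mem h1 (M.inv_mem h2)
      rwa [show eich q e y = eich q e (y - z) * eich q e z by rw [eich_add he.1 h3 hz, sub_add_cancel],
        mul_inv_cancel_right] at this
  have hconj : ∀ g ∈ G, ∀ y, polar q e y = 0 → eich q e y ∈ M →
      polar q e (app g y) = 0 ∧ eich q e (app g y) ∈ M := by
    intro g hg y hy hyM
    obtain ⟨hge, l, hl, hgl⟩ := (mem_upTo he.1).1 hg
    have h1 : polar q e (app g y) = 0 := by
      have := polar_app g e y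
      rwa [hge, hy] at this
    have h2 := M.mul_mem (M.mul_mem hgl hyM) (M.inv_mem hgl)
    have hle' : app (g * eich q e l) e = e := by rw [app_mul, app_eich he.1 hl, hee, hl]; simp [hge]
    have hy' : app (g * eich q e l) y = app g y + (-polar q y l) • e := by
      rw [app_mul, app_eich he.1 hl, polar_comm (f := ⇑q) y e, hy]
      simp [map_add, map_neg, map_smul, hge]
    rw [eich_conj he.1 hy, hle', hy', ← eich_add he.1 h1 (by rw [polar_smul_right, hee, smul_zero]),
      eich_smul_self he.1, mul_one] at h2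
    exact ⟨h1, h2⟩
  -- multiples of `E e`
  have hroot : ∀ (r : F) y, polar q (E e) y = 0 → app (eich q (E e) (r • b)) y =
      y + (-(r * polar q y b)) • E e := fun r y hy => by
    rw [app_eich hqE (by rw [polar_smul_right, hEeb, smul_zero]), polar_comm (f := ⇑q) y (E e), hy,
      polar_smul_right]
    simp
  have hmov : ∀ (r : F) y, polar q e y = 0 → eich q e y ∈ M →
      polar q e (app (eich q (E e) (r • b)) y - y) = 0 ∧ eich q e (app (eich q (E e) (r • b)) y - y) ∈ M := by
    intro r y hy hyM
    obtain ⟨h1, h2⟩ := hconj _ (hsec (r • b) (by rw [polar_smul_right, heb, smul_zero])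
      (by rw [polar_smul_right, hEeb, smul_zero])) y hy hyM
    exact ⟨by rw [polar_sub_right, h1, hy, sub_zero], hsub _ _ h1 hy h2 hyM⟩
  have hEeM : ∀ r : F, eich q e (r • E e) ∈ M := by
    intro r
    obtain ⟨y, hey, hyM, hyE, hyb⟩ : ∃ y, polar q e y = 0 ∧ eich q e y ∈ M ∧ polar q (E e) y = 0 ∧
        polar q y b ≠ 0 := by
      by_cases h0 : polar q (E e) v = 0
      · exact ⟨v, hev, hvM, h0, by rwa [polar_comm]⟩
      obtain ⟨h1, h2⟩ := hmov 1 v hev hvM
      refine ⟨_, h1, h2, ?_, ?_⟩ <;>
        rw [one_smul, app_eich hqE hEeb, add_assoc, add_sub_cancel_left]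
      · rw [polar_add_right, polar_smul_right, polar_smul_right, hEeb, hEE, smul_zero, smul_zero, add_zero]
      · rw [polar_add_left, polar_smul_left, polar_smul_left, hEeb, polar_self', smul_zero, add_zero,
          polar_comm (f := ⇑q) v (E e), smul_eq_mul]
        exact mul_ne_zero h0 (mul_ne_zero D.two hqb)
    obtain ⟨-, h2⟩ := hmov (-r / polar q y b) y hey hyM
    rw [hroot _ y hyE, add_sub_cancel_left] at h2
    convert h2 using 3
    field_simp
  have hEp : ∀ r : F, polar q e (r • E e) = 0 := fun r => by rw [polar_smul_right, he.2, smul_zero]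
  have hxmov : ∀ (r : F) y, polar q e y = 0 → polar q x y = 0 →
      polar q e ((r * γ) • y + (r * (-polar q (E e) y - q y * γ)) • x) = 0 ∧
      eich q e ((r * γ) • y + (r * (-polar q (E e) y - q y * γ)) • x) ∈ M := by
    intro r y hy hxy
    obtain ⟨h1, h2⟩ := hconj _ (hx' y hy hxy) _ (hEp r) (hEeM r)
    have e1 : app (eich q x y) (r • E e) - r • E e = (r * γ) • y + (r * (-polar q (E e) y - q y * γ)) • x := by
      rw [app_eich hqx hxy, polar_smul_left, polar_smul_left, ← hγdef, smul_eq_mul, smul_eq_mul]
      module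
    exact ⟨by rw [← e1, polar_sub_right, h1, hEp, sub_zero], by rw [← e1]; exact hsub _ _ h1 (hEp r) h2 (hEeM r)⟩
  have hxp : ∀ r : F, polar q e (r • x) = 0 := fun r => by rw [polar_smul_right, hex, smul_zero]
  have hxM : ∀ r : F, eich q e (r • x) ∈ M := by
    intro r
    set r' := -r / (2 * q b * γ)
    obtain ⟨h1, h2⟩ := hxmov r' b heb hxb
    obtain ⟨h3, h4⟩ := hxmov r' (-b) (by rw [polar_neg_right, heb, neg_zero]) (by rw [polar_neg_right, hxb, neg_zero])
    have h5 := hadd _ _ h1 h3 h2 h4
    have hne : 2 * q b * γ ≠ 0 := mul_ne_zero (mul_ne_zero D.two hqb) hγ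
    have hr : r' * (2 * q b * γ) = -r := div_mul_cancel₀ _ hne
    convert h5 using 2
    rw [polar_neg_right, QuadraticMap.map_neg, hEeb]
    match_scalars
    · linear_combination hr
    · ring
  refine ⟨he.1, fun y hy => ?_⟩
  set s := polar q x y / γ with hs
  set y' := y - s • E e with hy'
  have hey' : polar q e y' = 0 := by rw [hy', polar_sub_right, hy, hEp, sub_zero]
  have hxy' : polar q x y' = 0 := by
    rw [hy', polar_sub_right, polar_smul_right, polar_comm (f := ⇑q) x (E e), ← hγdef, hs, smul_eq_mul,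
      div_mul_cancel₀ _ hγ, sub_self]
  obtain ⟨h1, h2⟩ := hxmov γ⁻¹ y' hey' hxy'
  have h3 := hsub _ _ h1 (hxp _) h2 (hxM (γ⁻¹ * (-polar q (E e) y' - q y' * γ)))
  rw [add_sub_cancel_right, inv_mul_cancel₀ hγ, one_smul] at h3
  have h4 := hadd _ _ hey' (hEp s) h3 (hEeM s)
  rwa [hy', sub_add_cancel] at h4

omit hle in
/-- The normaliser of the extension field is maximal. -/
theorem Data.maximal : Cfsg.Geo.IsMaximalIn (commutator (O q)) (extNorm q E ⊓ commutator (O q)) := by
  obtain ⟨g₀, hg₀, hg₀'⟩ := D.exists_not_norm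
  refine ⟨lt_of_le_of_ne inf_le_right fun h => hg₀' ((h.symm ▸ hg₀ : g₀ ∈ extNorm q E ⊓ commutator (O q))).1,
    fun M hle hMC => ?_⟩
  by_cases hall : M ≤ extNorm q E
  · exact Or.inl (le_antisymm (le_inf hall hMC) hle)
  right
  refine le_antisymm hMC ?_
  obtain ⟨g, hg, hgn⟩ := SetLike.not_le_iff_exists.1 hall
  obtain ⟨e, he, hge⟩ : ∃ e, KSing q E e ∧ polar q (app g e) (E (app g e)) ≠ 0 := by
    by_contra hc
    push Not at hc
    exact hgn (D.mem_norm_of_ksing fun u hu => ⟨by rw [Q_app, hu.1], hc u hu⟩)
  obtain ⟨c, hc, hce, hγ⟩ := D.exists_corner hle hg he hge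
  have hfull := D.full_of_corner hle he hc hce hγ
  have he0 : e ≠ 0 := fun h => hge (by rw [h, map_zero, polar_zero_left])
  obtain ⟨f, hf, hfe, hfEe⟩ := D.exists_partner_top he he0
  obtain ⟨a, hqa, hfa, hfa'⟩ := exists_aniso_orth D.nondeg D.seven f (E f)
  have hef : polar q e f = 0 := by rw [polar_comm, hfe]
  have heEf : polar q e (E f) = 1 := by rw [← D.adj, polar_comm, hfEe]
  have h1 := D.polar_rootK hf hfa hfa' e
  rw [he.1, hef, heEf] at h1
  refine commutator_le_of_pair D.nondeg D.seven hfull
    (full_conj (hle (D.rootK_norm hf hfa hfa')) hfull) ?_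
  rw [polar_comm, h1]
  simpa using hqa

omit D hle in
/-- The statement for a quadratic self-adjoint subalgebra. -/
theorem maximal_field {Q : (ι → F) → F} (hn : Fintype.card ι = 8)
    (hQ : Cfsg.Geo.IsNondegenerateQuadraticForm Q) (h2 : (2 : F) ≠ 0)
    (hminus : ∀ X : Submodule F (ι → F), (∀ x ∈ X, Q x = 0) → Module.finrank F X < 4)
    (K : Subalgebra F (Matrix ι ι F)) (hK : Cfsg.Geo.IsFieldSubalgebra 2 K)
    (hsa : Cfsg.Geo.IsSelfAdjointFor (QuadraticMap.polar Q) K) :
    Cfsg.Geo.IsMaximalIn (Cfsg.Geo.omegaGL Q) (Cfsg.Geo.subalgebraNormalizer K ⊓ Cfsg.Geo.omegaGL Q) := by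
  classical
  have : Nonempty ι := Fintype.card_pos_iff.1 (by omega)
  refine OrthPair.maximal_transport hQ ?_
  have hq := OrthTools.quadOf_nondegenerate hQ
  set q := CfsgLib.Maximal.TensorTools.quadOf hQ with hqdef
  have hQq : ⇑q = Q := CfsgLib.Maximal.TensorTools.quadOf_coe hQ
  obtain ⟨j, hj, hjn⟩ : ∃ j ∈ K, ∀ a : F, j ≠ a • (1 : Matrix ι ι F) := by
    by_contra hc
    push Not at hc
    have h1 : Subalgebra.toSubmodule K ≤ Submodule.span F ({1} : Set (Matrix ι ι F)) := fun x hx => by
      obtain ⟨a, rfl⟩ := hc x hx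
      exact Submodule.smul_mem _ _ (Submodule.mem_span_singleton_self _)
    have h3 := Submodule.finrank_mono h1
    rw [finrank_span_singleton (one_ne_zero (α := Matrix ι ι F))] at h3
    have h4 := hK.finrank_eq
    change Module.finrank F (Subalgebra.toSubmodule K) = 2 at h4
    omega
  obtain ⟨b, a, hjj⟩ := OrthCplx.mem_span_one hK hj hjn (K.mul_mem hj hj)
  set ε := j - (a / 2) • (1 : Matrix ι ι F) with hε
  have hεK : ε ∈ K := K.sub_mem hj (K.smul_mem K.one_mem _)
  set d := b + a * a / 4 with hd
  have h4 : (4 : F) ≠ 0 := by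
    rw [show (4 : F) = 2 * 2 by norm_num]; exact mul_ne_zero h2 h2
  have hεε : ε * ε = d • (1 : Matrix ι ι F) := by
    rw [hε, sub_mul, mul_sub, mul_sub, hjj, Matrix.mul_smul, Matrix.smul_mul, Matrix.smul_mul, mul_one, one_mul,
      Matrix.mul_smul, one_mul, hd]
    match_scalars <;> field_simp <;> ring
  have hεn : ∀ s : F, ε ≠ s • (1 : Matrix ι ι F) := fun s h => hjn (s + a / 2) (by
    rw [add_smul, ← h, hε, sub_add_cancel])
  have hnsq : ∀ s : F, s * s ≠ d := by
    intro s hs
    have h0 : (ε - s • (1 : Matrix ι ι F)) * (ε + s • (1 : Matrix ι ι F)) = 0 := by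
      rw [sub_mul, mul_add, mul_add, hεε, Matrix.mul_smul, Matrix.smul_mul, Matrix.smul_mul, mul_one, one_mul,
        Matrix.mul_smul, one_mul, ← hs]
      module
    obtain ⟨y, -, hy⟩ := hK.inv _ (K.sub_mem hεK (K.smul_mem K.one_mem s)) (sub_ne_zero.2 (hεn s))
    have hy' : y * (ε - s • (1 : Matrix ι ι F)) = 1 := mul_eq_one_comm.1 hy
    have := congrArg (y * ·) h0
    simp only [← mul_assoc, hy', one_mul, mul_zero] at this
    exact hεn (-s) (by rw [neg_smul]; exact eq_neg_of_add_eq_zero_left this)
  set E := Matrix.toLin' ε with hE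
  have hEx : ∀ x, E x = ε *ᵥ x := fun x => Matrix.toLin'_apply ε x
  have D : Data q E d := ⟨hq, hn, h2, hnsq, fun x => by
    rw [hEx, hEx, Matrix.mulVec_mulVec, hεε, Matrix.smul_mulVec, Matrix.one_mulVec], fun x y => by
    rw [hEx, hEx, hQq]; exact hsa ε hεK x y, fun X hX => hminus X fun x hx => by rw [← hQq]; exact hX x hx⟩
  have key : (Cfsg.Geo.subalgebraNormalizer K).comap (O q).subtype = extNorm q E := by
    ext g
    set G := ((g : GL ι F) : Matrix ι ι F) with hG
    set G' := (((g : GL ι F)⁻¹ : GL ι F) : Matrix ι ι F) with hG'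
    have hGG : G * G' = 1 := Units.mul_inv _
    have hG'G : G' * G = 1 := Units.inv_mul _
    have happ : ∀ x, app g x = G *ᵥ x := fun x => rfl
    constructor
    · intro hg
      obtain ⟨x, y, hxy⟩ := OrthCplx.mem_span_one hK hεK hεn ((hg ε).1 hεK)
      change G * ε * G' = _ at hxy
      have hGε : G * ε = x • G + y • (ε * G) := by
        have := congrArg (· * G) hxy
        simpa [mul_assoc, hG'G, add_mul] using this
      have hsq : (x * x + y * y * d - d) • (1 : Matrix ι ι F) + (2 * (x * y)) • ε = 0 := by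
        have h0 : (G * ε * G') * (G * ε * G') = d • (1 : Matrix ι ι F) := by
          rw [show G * ε * G' * (G * ε * G') = G * ε * (G' * G) * ε * G' by simp only [mul_assoc], hG'G, mul_one,
            mul_assoc G ε ε, hεε, Matrix.mul_smul, mul_one, Matrix.smul_mul, hGG]
        rw [hxy] at h0
        simp only [add_mul, mul_add, Matrix.mul_smul, Matrix.smul_mul, one_mul, mul_one, hεε] at h0
        linear_combination (norm := module) h0
      have hxy0 : x * y = 0 := by
        by_contra h
        have h' : 2 * (x * y) ≠ 0 := mul_ne_zero h2 h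
        refine hεn (-(x * x + y * y * d - d) / (2 * (x * y))) (smul_right_injective _ h' ?_)
        show (2 * (x * y)) • ε = (2 * (x * y)) • _
        rw [smul_smul, mul_div_cancel₀ _ h', neg_smul, eq_neg_iff_add_eq_zero, add_comm]
        exact hsq
      have hy0 : y ≠ 0 := by
        rintro rfl
        refine hεn x ?_
        have := congrArg (G' * ·) hGε
        simpa [← mul_assoc, hG'G, Matrix.mul_smul] using this
      obtain rfl : x = 0 := (mul_eq_zero.1 hxy0).resolve_right hy0
      have hyy : y * y = 1 := by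
        simp only [zero_mul, mul_zero, zero_smul, add_zero, zero_add] at hsq
        have h := (smul_eq_zero.1 hsq).resolve_right one_ne_zero
        exact mul_right_cancel₀ D.d_ne (show y * y * d = 1 * d by linear_combination h)
      refine ⟨y, mul_self_eq_one_iff.1 hyy, fun v => ?_⟩
      rw [happ, happ, hEx, hEx, Matrix.mulVec_mulVec, Matrix.mulVec_mulVec, hGε, zero_smul, zero_add,
        Matrix.smul_mulVec, smul_smul, hyy, one_smul]
    · rintro ⟨s, hs, hg⟩
      have hss : s * s = 1 := by rcases hs with rfl | rfl <;> simp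
      have hεG : ε * G = s • (G * ε) := Matrix.toLin'.injective (LinearMap.ext fun v => by
        rw [map_smul, LinearMap.smul_apply, Matrix.toLin'_apply, Matrix.toLin'_apply, ← Matrix.mulVec_mulVec,
          ← Matrix.mulVec_mulVec, ← happ, ← happ, ← hEx, ← hEx, hg])
      have hconj : G * ε * G' = s • ε := by
        have : G * ε = s • (ε * G) := by rw [hεG, smul_smul, hss, one_smul]
        rw [this, Matrix.smul_mul, mul_assoc, hGG, mul_one]
      show ∀ k, k ∈ K ↔ G * k * G' ∈ K
      intro k
      constructor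
      · intro hk
        obtain ⟨x, y, rfl⟩ := OrthCplx.mem_span_one hK hεK hεn hk
        rw [mul_add, add_mul, Matrix.mul_smul, Matrix.mul_smul, Matrix.smul_mul, Matrix.smul_mul, mul_one, hGG, hconj]
        exact K.add_mem (K.smul_mem K.one_mem _) (K.smul_mem (K.smul_mem hεK _) _)
      · intro hk
        obtain ⟨x, y, hxy⟩ := OrthCplx.mem_span_one hK hεK hεn hk
        have h' : k = x • (1 : Matrix ι ι F) + y • (s • ε) := by
          have h'' := congrArg (fun m => G' * m * G) hxy
          simp only [← mul_assoc, hG'G, one_mul] at h''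
          rw [mul_assoc k, hG'G, mul_one] at h''
          rw [h'', mul_add, add_mul, Matrix.mul_smul, Matrix.mul_smul, Matrix.smul_mul, Matrix.smul_mul, mul_one, hG'G]
          congr 2
          have hεG' : ε * G = s • (G * ε) := hεG
          rw [mul_assoc, hεG', Matrix.mul_smul, ← mul_assoc, hG'G, one_mul]
        rw [h']
        exact K.add_mem (K.smul_mem K.one_mem _) (K.smul_mem (K.smul_mem hεK _) _)
  rw [key]
  exact D.maximal

end CfsgLib.OmegaEight.Ext
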