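import Cfsg.Agent.Lib.OmegaEight.ExtSetting

/-!
An isometry respecting the vectors singular for both forms normalises the operator.
-/

set_option autoImplicit false
set_option linter.unusedSectionVars false

namespace CfsgLib.OmegaEight.Ext

open Matrix QuadraticMap CfsgLib.Orth CfsgLib.GeomClasses CfsgLib.GeomClasses.OrthEich

variable {ι : Type} [Fintype ι] [DecidableEq ι] {F : Type*} [Field F] [Fintype F]
  {q : QuadraticForm F (ι → F)}

/-- The isometries commuting or anticommuting with the operator. -/
noncomputable def extNorm (q : QuadraticForm F (ι → F)) (E : (ι → F) →ₗ[F] (ι → F)) : Subgroup (O q) where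
  carrier := {g | ∃ s : F, (s = 1 ∨ s = -1) ∧ ∀ x, E (app g x) = s • app g (E x)}
  one_mem' := ⟨1, Or.inl rfl, fun x => by simp⟩
  mul_mem' := by
    rintro g h ⟨s, hs, hg⟩ ⟨t, ht, hh⟩
    refine ⟨s * t, ?_, fun x => by rw [app_mul, app_mul, hg, hh, map_smul, smul_smul]⟩
    rcases hs with rfl | rfl <;> rcases ht with rfl | rfl <;> simp
  inv_mem' := by
    rintro g ⟨s, hs, hg⟩
    refine ⟨s, hs, fun x => ?_⟩
    have h := hg (app g⁻¹ x)
    rw [app_app_inv] at h
    rw [h, map_smul, app_inv_app, smul_smul]
    rcases hs with rfl | rfl <;> simp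

variable {E : (ι → F) →ₗ[F] (ι → F)} {d : F} (D : Data q E d)
include D

theorem Data.rootK_norm {u a : ι → F} (hu : KSing q E u) (ha : polar q u a = 0) (ha' : polar q (E u) a = 0) :
    rootK q E u a ∈ extNorm q E ⊓ commutator (O q) :=
  ⟨⟨1, Or.inl rfl, fun x => by rw [one_smul, D.rootK_comm hu ha ha']⟩, D.rootK_mem hu ha ha'⟩

set_option maxHeartbeats 800000 in
/-- An isometry preserving joint singularity lies in the normaliser. -/
theorem Data.mem_norm_of_ksing {g : O q} (hg : ∀ u, KSing q E u → KSing q E (app g u)) : g ∈ extNorm q E := by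
  set J : (ι → F) →ₗ[F] (ι → F) := (app g⁻¹).comp (E.comp (app g)) with hJdef
  have hJ : ∀ x, app g (J x) = E (app g x) := fun x => by
    rw [hJdef, LinearMap.comp_apply, LinearMap.comp_apply, app_app_inv]
  have hJJ : ∀ x, J (J x) = d • x := fun x => by
    refine gl_mulVec_injective (g : GL ι F) ?_
    show app g (J (J x)) = app g (d • x)
    rw [hJ, hJ, D.sq, map_smul]
  have hJadj : ∀ x y, polar q (J x) y = polar q x (J y) := fun x y => by
    rw [← polar_app g, ← polar_app g x, hJ, hJ, D.adj]
  -- every line is mapped to itself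
  have hline : ∀ u, KSing q E u → ∃ a b : F, J u = a • u + b • E u := by
    intro u hu
    rcases eq_or_ne u 0 with rfl | hu0
    · exact ⟨0, 0, by simp⟩
    set y := app g u with hy
    set y' := app g (E u) with hy'
    have hyK : KSing q E y := hg u hu
    have hy'K : KSing q E y' := hg _ (D.ksing_E hu)
    have h1 : polar q y' y = 0 := by rw [hy, hy', polar_app, polar_comm, hu.2]
    have h2 : polar q y' (E y) = 0 := by
      have h := (hg _ (D.ksing_comb hu 1 1)).2
      rw [one_smul, one_smul, map_add, map_add, ← hy, ← hy', polar_add_left, polar_add_right, polar_add_right,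
        hyK.2, hy'K.2, ← D.adj y y', polar_comm (f := ⇑q) (E y) y', zero_add, add_zero, ← two_mul] at h
      exact (mul_eq_zero.1 h).resolve_left D.two
    have hy0 : y ≠ 0 := fun h0 => hu0 (by
      rw [← app_inv_app g u, ← hy, h0, map_zero])
    obtain ⟨s, t, hst⟩ := Submodule.mem_span_pair.1 (D.mem_line hyK hy0 hy'K h1 h2)
    have ht : t ≠ 0 := by
      rintro rfl
      rw [zero_smul, add_zero] at hst
      have := congrArg (app g⁻¹) hst
      rw [map_smul, hy, hy', app_inv_app, app_inv_app] at this
      exact D.E_not_mem hu0 (Submodule.mem_span_singleton.2 ⟨s, this⟩)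
    refine ⟨-(s / t), t⁻¹, ?_⟩
    refine gl_mulVec_injective (g : GL ι F) ?_
    show app g (J u) = app g (-(s / t) • u + t⁻¹ • E u)
    rw [hJ, map_add, map_smul, map_smul, ← hy, ← hy', ← hst, smul_add, inv_smul_smul₀ ht]
    module
  -- a frame
  obtain ⟨u, -, hu0, hu⟩ := D.exists_ksing (X := ⊤) (by
    rw [finrank_top, Module.finrank_fintype_fun_eq_card, D.card]; norm_num)
  obtain ⟨f, hf, hfu, hfEu⟩ := D.exists_partner_top hu hu0
  have huu : polar q u u = 0 := by rw [polar_self', hu.1, mul_zero]
  have hff : polar q f f = 0 := by rw [polar_self', hf.1, mul_zero]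
  have huEf : polar q u (E f) = 1 := by rw [← D.adj, polar_comm, hfEu]
  have hEuEf : polar q (E u) (E f) = 0 := by rw [D.adj', polar_comm, hfu, mul_zero]
  obtain ⟨α₁, β, hJu⟩ := hline u hu
  have hpair : ∀ f', KSing q E f' → polar q f' u = 0 → polar q f' (E u) = 1 →
      J f' = (-α₁) • f' + β • E f' := by
    intro f' hf' h1 h2
    obtain ⟨α₂, β₂, hJf⟩ := hline f' hf'
    have huEf' : polar q u (E f') = 1 := by rw [← D.adj, polar_comm, h2]
    have hb : β = β₂ := by
      have := hJadj u f'
      rw [hJu, hJf, polar_add_left, polar_add_right, polar_smul_left, polar_smul_left, polar_smul_right,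
        polar_smul_right, polar_comm (f := ⇑q) u f', polar_comm (f := ⇑q) (E u) f', h1, h2, huEf'] at this
      simpa using this
    subst hb
    have hβ : β ≠ 0 := by
      rintro rfl
      have h := hJJ f'
      rw [hJf, zero_smul, add_zero, map_smul, hJf, zero_smul, add_zero, smul_smul] at h
      have hf0 : f' ≠ 0 := fun h0 => one_ne_zero (by rw [← h2, h0, polar_zero_left])
      exact D.nonsq α₂ (smul_left_injective F hf0 h)
    have hJE : J (E f') = ((d - α₂ * α₂) / β) • f' + (-α₂) • E f' := by
      have h := hJJ f'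
      rw [hJf, map_add, map_smul, map_smul, hJf] at h
      have e : β • J (E f') = β • (((d - α₂ * α₂) / β) • f' + (-α₂) • E f') := by
        rw [smul_add, smul_smul, mul_div_cancel₀ _ hβ]
        linear_combination (norm := module) h
      exact smul_right_injective _ hβ e
    have ha : α₁ = -α₂ := by
      have := hJadj u (E f')
      have h9 : polar q (E u) (E f') = 0 := by rw [D.adj', polar_comm, h1, mul_zero]
      rw [hJu, hJE, polar_add_left, polar_add_right, polar_smul_left, polar_smul_left, polar_smul_right,
        polar_smul_right, h9, huEf', polar_comm (f := ⇑q) u f', h1] at this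
      simpa using this
    rw [hJf, ha, neg_neg]
  set α := -α₁ with hα
  have hJu' : J u = (-α) • u + β • E u := by rw [hJu, hα, neg_neg]
  have hJf := hpair f hf hfu hfEu
  have hβ : β ≠ 0 := by
    rintro rfl
    have h := hJJ u
    rw [hJu', zero_smul, add_zero, map_smul, hJu', zero_smul, add_zero, smul_smul] at h
    exact D.nonsq _ (smul_left_injective F hu0 h)
  have hJEu : J (E u) = ((d - α * α) / β) • u + α • E u := by
    have h := hJJ u
    rw [hJu', map_add, map_smul, map_smul, hJu'] at h
    have e : β • J (E u) = β • (((d - α * α) / β) • u + α • E u) := by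
      rw [smul_add, smul_smul, mul_div_cancel₀ _ hβ]
      linear_combination (norm := module) h
    exact smul_right_injective _ hβ e
  -- the complement
  set κ := (d - α * α) / β - β * d with hκ
  have hS : ∀ a ∈ perp q ![u, E u, f, E f], J a =
      α • a + β • E a + (-(polar q a (E a) * α) + q a * κ) • u := by
    intro a ha
    rw [perp_four] at ha
    obtain ⟨h1, h2, h3, h4⟩ := ha
    have h4' : polar q f (E a) = 0 := by rw [← D.adj, h4]
    have hR := D.rootK_partner hu h1 h2 hfu hfEu h3 h4'
    have hfa := hpair _ (D.rootK_ksing hu h1 h2 hf) (by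
        rw [hR]
        simp [polar_add_left, polar_smul_left, hfu, huu, polar_comm (f := ⇑q) a u, h1,
          polar_comm (f := ⇑q) (E u) u, hu.2]) (by
        rw [hR]
        simp [polar_add_left, polar_smul_left, hfEu, polar_comm (f := ⇑q) a (E u), h2, hu.2, D.adj', huu])
    rw [hR] at hfa
    simp only [map_add, map_smul, D.sq, hJf, hJu', hJEu] at hfa
    have hc := mul_div_cancel₀ (polar q a (E a)) D.two
    rw [hκ]
    linear_combination (norm := skip) hfa
    match_scalars <;> first | ring1 | linear_combination α * hc | linear_combination -α * hc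
  have hS' : ∀ a ∈ perp q ![u, E u, f, E f], J a = α • a + β • E a := by
    intro a ha
    have h1 := hS a ha
    have h2 := hS _ (Submodule.smul_mem _ (2 : F) ha)
    rw [map_smul, h1, map_smul E, QuadraticMap.map_smul, polar_smul_left, polar_smul_right] at h2
    set φ := -(polar q a (E a) * α) + q a * κ with hφ
    have h3 : (2 * φ) • u = (0 : ι → F) := by
      rw [hφ]
      linear_combination (norm := skip) -h2
      simp only [smul_eq_mul]
      match_scalars <;> ring
    rw [h1, (mul_eq_zero.1 ((smul_eq_zero.1 h3).resolve_right hu0)).resolve_left D.two, zero_smul, add_zero]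
  -- the scalars
  obtain ⟨a, ha, ha0⟩ := Submodule.exists_mem_ne_zero_of_ne_bot (p := perp q ![u, E u, f, E f]) fun h => by
    have := D.le_finrank_perp ![u, E u, f, E f]
    rw [h, finrank_bot] at this
    omega
  have h := hJJ a
  rw [hS' a ha, map_add, map_smul, map_smul, hS' a ha, hS' _ (D.perp_quad_stable u f ha), D.sq] at h
  have hz : (α * α + β * β * d - d) • a + (2 * (α * β)) • E a = 0 := by
    linear_combination (norm := module) h
  obtain ⟨hz1, hz2⟩ := D.comb_ne ha0 hz
  have hα0 : α = 0 := ((mul_eq_zero.1 ((mul_eq_zero.1 hz2).resolve_left D.two))).resolve_right hβ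
  have hββ : β * β = 1 := by
    rw [hα0, mul_zero, zero_add] at hz1
    exact mul_right_cancel₀ D.d_ne (show β * β * d = 1 * d by linear_combination hz1)
  have hJEu' : J (E u) = β • E (E u) := by
    rw [hJEu, hα0, D.sq, zero_smul, add_zero, mul_zero, sub_zero, smul_smul]
    congr 1
    rw [div_eq_iff hβ]
    linear_combination -d * hββ
  have hJu2 : J u = β • E u := by rw [hJu', hα0, neg_zero, zero_smul, zero_add]
  have hJf2 : J f = β • E f := by rw [hJf, hα0, zero_smul, zero_add]
  have hJEf : J (E f) = β • E (E f) := by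
    have h := hJJ f
    rw [hJf2, map_smul] at h
    rw [← one_smul F (J (E f)), ← hββ, ← smul_smul, h, D.sq]
  refine ⟨β, mul_self_eq_one_iff.1 hββ, fun x => ?_⟩
  obtain ⟨w, hw, hx⟩ := D.exists_proj hu hf hfu hfEu x
  rw [← hJ, ← map_smul (app g)]
  congr 1
  rw [hx]
  simp only [map_add, map_smul, hS' w hw, hJu2, hJEu', hJf2, hJEf, hα0]
  module

end CfsgLib.OmegaEight.Ext
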