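import Mathlib.FieldTheory.ChevalleyWarning
import Mathlib.LinearAlgebra.QuadraticForm.Basic
import Mathlib.LinearAlgebra.Dimension.Free

/-!
Two quadratic equations in at least five variables over a finite field have a common non-zero solution.
-/

set_option autoImplicit false

namespace CfsgLib.OmegaEight

open MvPolynomial

variable {F : Type*} [Field F] [Fintype F]

/-- The polynomial of a matrix of coefficients. -/
noncomputable def quadPoly {n : ℕ} (A : Fin n → Fin n → F) : MvPolynomial (Fin n) F :=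
  ∑ i, ∑ j, MvPolynomial.C (A i j) * (MvPolynomial.X i * MvPolynomial.X j)

omit [Fintype F] in
theorem totalDegree_quadPoly {n : ℕ} (A : Fin n → Fin n → F) : (quadPoly A).totalDegree ≤ 2 := by
  refine MvPolynomial.totalDegree_finsetSum_le fun i _ => MvPolynomial.totalDegree_finsetSum_le fun j _ => ?_
  refine (MvPolynomial.totalDegree_mul _ _).trans ?_
  rw [MvPolynomial.totalDegree_C, zero_add]
  refine (MvPolynomial.totalDegree_mul _ _).trans ?_
  rw [MvPolynomial.totalDegree_X, MvPolynomial.totalDegree_X]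

variable {V : Type*} [AddCommGroup V] [Module F V] [FiniteDimensional F V]

/-- A common non-zero isotropic vector of two bilinear maps on a space of dimension at least five. -/
theorem exists_common_zero (B₁ B₂ : V →ₗ[F] V →ₗ[F] F) {X : Submodule F V} (hX : 5 ≤ Module.finrank F X) :
    ∃ x ∈ X, x ≠ 0 ∧ B₁ x x = 0 ∧ B₂ x x = 0 := by
  classical
  set n := Module.finrank F X
  let e : (Fin n → F) ≃ₗ[F] X := (Module.finBasis F X).equivFun.symm
  let b : Fin n → V := fun i => (Module.finBasis F X i : V)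
  have he : ∀ c : Fin n → F, (e c : V) = ∑ i, c i • b i := fun c => by
    simp [e, b, Module.Basis.equivFun_symm_apply]
    rfl
  have hev : ∀ (B : V →ₗ[F] V →ₗ[F] F) (c : Fin n → F),
      MvPolynomial.eval c (quadPoly fun i j => B (b i) (b j)) = B (e c) (e c) := by
    intro B c
    simp only [he, quadPoly, map_sum, map_mul, MvPolynomial.eval_C, MvPolynomial.eval_X, map_smul,
      LinearMap.sum_apply, LinearMap.smul_apply, smul_eq_mul]
    rw [Finset.sum_comm]
    refine Finset.sum_congr rfl fun i _ => ?_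
    rw [Finset.mul_sum]
    exact Finset.sum_congr rfl fun j _ => by ring
  obtain ⟨p, hp⟩ := CharP.exists F
  have : Fact p.Prime := ⟨CharP.char_is_prime F p⟩
  set f₁ := quadPoly fun i j => B₁ (b i) (b j) with hf₁
  set f₂ := quadPoly fun i j => B₂ (b i) (b j) with hf₂
  have hd : f₁.totalDegree + f₂.totalDegree < Fintype.card (Fin n) := by
    have h1 := totalDegree_quadPoly fun i j => B₁ (b i) (b j)
    have h2 := totalDegree_quadPoly fun i j => B₂ (b i) (b j)
    rw [Fintype.card_fin, hf₁, hf₂]
    omega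
  have hdvd := char_dvd_card_solutions_of_add_lt (σ := Fin n) p hd
  have h0 : MvPolynomial.eval (0 : Fin n → F) f₁ = 0 ∧ MvPolynomial.eval (0 : Fin n → F) f₂ = 0 := by
    rw [hf₁, hf₂, hev, hev]
    simp
  have hpos : 0 < Fintype.card {x : Fin n → F // MvPolynomial.eval x f₁ = 0 ∧ MvPolynomial.eval x f₂ = 0} :=
    Fintype.card_pos_iff.2 ⟨⟨0, h0⟩⟩
  obtain ⟨⟨c, hc1, hc2⟩, hc⟩ := Fintype.exists_ne_of_one_lt_card
    (lt_of_lt_of_le (Fact.out : p.Prime).one_lt (Nat.le_of_dvd hpos hdvd)) ⟨0, h0⟩
  have hc0 : c ≠ 0 := fun h => hc (Subtype.ext h)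
  rw [hf₁, hev] at hc1
  rw [hf₂, hev] at hc2
  exact ⟨_, (e c).2, fun h => hc0 (e.injective (by rw [map_zero]; exact Subtype.ext h)), hc1, hc2⟩

end CfsgLib.OmegaEight
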