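import Cfsg.Agent.Lib.GeomClasses.OrthSubspace
import Cfsg.Agent.Lib.GeomClasses.OrthPair
import Cfsg.Agent.Lib.OmegaEight.Quadrics

/-!
A self-adjoint square root `E` of a non-square on an orthogonal eight-space without totally singular
four-spaces: the root elements commuting with `E`, and the vectors singular for both `q` and `q ∘ E`.
-/

set_option autoImplicit false
set_option linter.unusedSectionVars false

namespace CfsgLib.OmegaEight.Ext

open Matrix QuadraticMap CfsgLib.Orth CfsgLib.GeomClasses CfsgLib.GeomClasses.OrthEich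

variable {ι : Type} [Fintype ι] [DecidableEq ι] {F : Type*} [Field F] [Fintype F]
  {q : QuadraticForm F (ι → F)}

/-- The hypotheses on the operator. -/
structure Data (q : QuadraticForm F (ι → F)) (E : (ι → F) →ₗ[F] (ι → F)) (d : F) : Prop where
  nondeg : q.polarBilin.Nondegenerate
  card : Fintype.card ι = 8
  two : (2 : F) ≠ 0
  nonsq : ∀ s : F, s * s ≠ d
  sq : ∀ x, E (E x) = d • x
  adj : ∀ x y, polar q (E x) y = polar q x (E y)
  minus : ∀ X : Submodule F (ι → F), (∀ x ∈ X, q x = 0) → Module.finrank F X < 4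

/-- Singular for both forms. -/
def KSing (q : QuadraticForm F (ι → F)) (E : (ι → F) →ₗ[F] (ι → F)) (u : ι → F) : Prop :=
  q u = 0 ∧ polar q u (E u) = 0

/-- The vectors orthogonal to a family. -/
noncomputable def perp (q : QuadraticForm F (ι → F)) {k : ℕ} (v : Fin k → ι → F) : Submodule F (ι → F) :=
  OrthTools.orth q (Submodule.span F (Set.range v))

theorem mem_perp {k : ℕ} {v : Fin k → ι → F} {x : ι → F} : x ∈ perp q v ↔ ∀ i, polar q (v i) x = 0 := by
  rw [perp, OrthTools.mem_orth]
  refine ⟨fun h i => h _ (Submodule.subset_span ⟨i, rfl⟩), fun h y hy => ?_⟩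
  induction hy using Submodule.span_induction with
  | mem y hy => obtain ⟨i, rfl⟩ := hy; exact h i
  | zero => exact polar_zero_left _ _
  | add a b _ _ ha hb => rw [polar_add_left, ha, hb, add_zero]
  | smul t a _ ha => rw [polar_smul_left, ha, smul_zero]

theorem perp_two {a b x : ι → F} : x ∈ perp q ![a, b] ↔ polar q a x = 0 ∧ polar q b x = 0 := by
  simp [mem_perp, Fin.forall_fin_succ]

theorem perp_four {a b c e x : ι → F} : x ∈ perp q ![a, b, c, e] ↔
    polar q a x = 0 ∧ polar q b x = 0 ∧ polar q c x = 0 ∧ polar q e x = 0 := by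
  simp [mem_perp, Fin.forall_fin_succ]

variable {E : (ι → F) →ₗ[F] (ι → F)} {d : F} (D : Data q E d)
include D

theorem Data.seven : 7 ≤ Fintype.card ι := by rw [D.card]; norm_num

theorem Data.le_finrank_perp {k : ℕ} (v : Fin k → ι → F) : 8 ≤ Module.finrank F (perp q v) + k := by
  have h1 := OrthTools.finrank_orth D.nondeg (Submodule.span F (Set.range v))
  have h2 : Module.finrank F (Submodule.span F (Set.range v)) ≤ k := by
    have := finrank_range_le_card (R := F) v
    rwa [Fintype.card_fin, Set.finrank] at this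
  have h3 := D.card
  rw [perp]
  omega

theorem Data.adj' (x y : ι → F) : polar q (E x) (E y) = d * polar q x y := by
  rw [D.adj, D.sq, polar_smul_right, smul_eq_mul]

theorem Data.q_E (x : ι → F) : q (E x) = d * q x := by
  have h := D.adj' x x
  rw [polar_self', polar_self'] at h
  exact mul_left_cancel₀ D.two (by rw [h]; ring)

theorem Data.d_ne : d ≠ 0 := fun h => D.nonsq 0 (by rw [h, mul_zero])

theorem Data.den_ne {s t : F} (h : s ≠ 0 ∨ t ≠ 0) : s * s - d * (t * t) ≠ 0 := by
  intro h0
  rcases eq_or_ne t 0 with rfl | ht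
  · rw [mul_zero, mul_zero, sub_zero, mul_self_eq_zero] at h0
    exact h.elim (fun h => h h0) (fun h => h rfl)
  · exact D.nonsq (s / t) (by field_simp; linear_combination h0)

theorem Data.comb_ne {x : ι → F} (hx : x ≠ 0) {s t : F} (h : s • x + t • E x = 0) : s = 0 ∧ t = 0 := by
  by_contra hc
  have h1 := congrArg E h
  simp only [map_add, map_smul, D.sq, map_zero] at h1
  have h2 : (s * s - d * (t * t)) • x = 0 := by
    have e : (s * s - d * (t * t)) • x = s • (s • x + t • E x) - t • (s • E x + t • d • x) := by module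
    rw [e, h, h1]; simp
  rcases smul_eq_zero.1 h2 with h3 | h3
  · exact D.den_ne (not_and_or.1 hc) h3
  · exact hx h3

theorem Data.E_not_mem {x : ι → F} (hx : x ≠ 0) : E x ∉ Submodule.span F ({x} : Set (ι → F)) := fun h => by
  obtain ⟨c, hc⟩ := Submodule.mem_span_singleton.1 h
  exact one_ne_zero (neg_eq_zero.1 (D.comb_ne hx (s := c) (t := -1) (by rw [hc]; module)).2)

theorem Data.ksing_E {u : ι → F} (hu : KSing q E u) : KSing q E (E u) :=
  ⟨by rw [D.q_E, hu.1, mul_zero], by rw [D.sq, polar_smul_right, polar_comm, hu.2, smul_zero]⟩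

theorem Data.ksing_comb {u : ι → F} (hu : KSing q E u) (s t : F) : KSing q E (s • u + t • E u) := by
  have h1 : polar q u u = 0 := by rw [polar_self', hu.1, mul_zero]
  have h2 : polar q (E u) u = 0 := by rw [polar_comm, hu.2]
  constructor
  · rw [QuadraticMap.map_add ⇑q, QuadraticMap.map_smul, QuadraticMap.map_smul, polar_smul_left, polar_smul_right,
      D.q_E, hu.1, hu.2]
    simp
  · simp only [map_add, map_smul, D.sq, polar_add_left, polar_add_right, polar_smul_left, polar_smul_right,
      smul_eq_mul, h1, h2, hu.2, D.adj']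
    ring

theorem Data.line_stable {u w : ι → F} (hw : w ∈ Submodule.span F ({u, E u} : Set (ι → F))) :
    E w ∈ Submodule.span F ({u, E u} : Set (ι → F)) := by
  obtain ⟨s, t, rfl⟩ := Submodule.mem_span_pair.1 hw
  exact Submodule.mem_span_pair.2 ⟨t * d, s, by simp only [map_add, map_smul, D.sq]; module⟩

/-- Two orthogonal lines of the extension field cannot both be singular. -/
theorem Data.mem_line {u y : ι → F} (hu : KSing q E u) (hu0 : u ≠ 0) (hy : KSing q E y)
    (h1 : polar q y u = 0) (h2 : polar q y (E u) = 0) : y ∈ Submodule.span F ({u, E u} : Set (ι → F)) := by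
  by_contra hn
  let v : Fin 4 → ι → F := ![u, E u, y, E y]
  have hli : LinearIndependent F v := by
    rw [Fintype.linearIndependent_iff]
    intro c hc
    simp only [v, Fin.sum_univ_four, Matrix.cons_val_zero, Matrix.cons_val_one, Matrix.cons_val] at hc
    set L := Submodule.span F ({u, E u} : Set (ι → F))
    have hz : c 2 • y + c 3 • E y ∈ L :=
      Submodule.mem_span_pair.2 ⟨-c 0, -c 1, by linear_combination (norm := module) -hc⟩
    have hy2 : (c 2 * c 2 - d * (c 3 * c 3)) • y ∈ L := by
      have e : (c 2 * c 2 - d * (c 3 * c 3)) • y =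
          c 2 • (c 2 • y + c 3 • E y) - c 3 • E (c 2 • y + c 3 • E y) := by
        simp only [map_add, map_smul, D.sq]; module
      rw [e]
      exact L.sub_mem (L.smul_mem _ hz) (L.smul_mem _ (D.line_stable hz))
    have h23 : c 2 = 0 ∧ c 3 = 0 := by
      by_contra h
      exact hn ((Submodule.smul_mem_iff L (D.den_ne (not_and_or.1 h))).1 hy2)
    have h01 := D.comb_ne hu0 (s := c 0) (t := c 1) (by
      rw [h23.1, h23.2, zero_smul, zero_smul, add_zero, add_zero] at hc
      exact hc)
    intro i
    fin_cases i <;> simp [h01, h23]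
  have hf := finrank_span_eq_card hli
  rw [Fintype.card_fin] at hf
  have hlt := D.minus (Submodule.span F (Set.range v)) fun x hx => by
    obtain ⟨c, rfl⟩ := (Submodule.mem_span_range_iff_exists_fun F).1 hx
    simp only [v, Fin.sum_univ_four, Matrix.cons_val_zero, Matrix.cons_val_one, Matrix.cons_val]
    have h3 : polar q (E y) u = 0 := by rw [D.adj, h2]
    have h4 : polar q (E y) (E u) = 0 := by rw [D.adj', h1, mul_zero]
    have h5 := (D.ksing_comb hu (c 0) (c 1)).1
    have h6 := (D.ksing_comb hy (c 2) (c 3)).1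
    rw [add_assoc, QuadraticMap.map_add ⇑q, h5, h6]
    simp only [polar_add_left, polar_add_right, polar_smul_left, polar_smul_right, smul_eq_mul,
      polar_comm (f := ⇑q) u y, polar_comm (f := ⇑q) (E u) y, polar_comm (f := ⇑q) u (E y),
      polar_comm (f := ⇑q) (E u) (E y), h1, h2, h3, h4]
    ring
  omega

/-! ### Root elements commuting with `E` -/

omit D in
/-- The root element. -/
noncomputable def rootK (q : QuadraticForm F (ι → F)) (E : (ι → F) →ₗ[F] (ι → F)) (u a : ι → F) : O q :=
  eich q u (E a) * eich q (E u) a * eich q (E u) ((polar q a (E a) / 2) • u)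

theorem Data.app_rootK {u a : ι → F} (hu : KSing q E u) (ha : polar q u a = 0) (ha' : polar q (E u) a = 0)
    (x : ι → F) :
    app (rootK q E u a) x = x + polar q x u • E a + polar q x (E u) • a +
      (-polar q x (E a) - polar q x (E u) * (polar q a (E a) / 2) - d * q a * polar q x u) • u +
      (-polar q x a - q a * polar q x (E u) - polar q x u * (polar q a (E a) / 2)) • E u := by
  set t := polar q a (E a) / 2 with ht
  have hc : polar q a (E a) = 2 * t := by rw [ht, mul_div_cancel₀ _ D.two]
  have hEu := D.ksing_E hu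
  have hua : polar q u (E a) = 0 := by rw [← D.adj, ha']
  have huu : polar q u u = 0 := by rw [polar_self', hu.1, mul_zero]
  have hEE : polar q (E u) (E u) = 0 := by rw [polar_self', hEu.1, mul_zero]
  have hEuu : polar q (E u) u = 0 := by rw [polar_comm, hu.2]
  have hEuEa : polar q (E u) (E a) = 0 := by rw [D.adj', ha, mul_zero]
  have hEut : polar q (E u) (t • u) = 0 := by rw [polar_smul_right, hEuu, smul_zero]
  rw [rootK, ← ht, app_mul, app_mul, app_eich hEu.1 hEut, app_eich hEu.1 ha', app_eich hu.1 hua]
  simp only [polar_add_left, polar_smul_left, polar_smul_right, QuadraticMap.map_smul, smul_eq_mul, hua, huu, hEE,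
    hEuu, hEuEa, ha, ha', hu.1, hu.2, hc, polar_comm (f := ⇑q) a u,
    D.q_E]
  match_scalars <;> ring

theorem Data.rootK_mem {u a : ι → F} (hu : KSing q E u) (ha : polar q u a = 0) (ha' : polar q (E u) a = 0) :
    rootK q E u a ∈ commutator (O q) := by
  have hEu := D.ksing_E hu
  refine mul_mem (mul_mem (eich_mem D.nondeg D.seven hu.1 (by rw [← D.adj, ha'])) (eich_mem D.nondeg D.seven hEu.1 ha'))
    (eich_mem D.nondeg D.seven hEu.1 ?_)
  rw [polar_smul_right, polar_comm (f := ⇑q) (E u) u, hu.2, smul_zero]

theorem Data.rootK_comm {u a : ι → F} (hu : KSing q E u) (ha : polar q u a = 0) (ha' : polar q (E u) a = 0)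
    (x : ι → F) : E (app (rootK q E u a) x) = app (rootK q E u a) (E x) := by
  rw [D.app_rootK hu ha ha', D.app_rootK hu ha ha']
  have h1 : polar q (E x) u = polar q x (E u) := D.adj x u
  have h2 : polar q (E x) a = polar q x (E a) := D.adj x a
  simp only [map_add, map_smul, D.sq, D.adj', h1, h2]
  match_scalars <;> ring

theorem Data.polar_rootK {u a : ι → F} (hu : KSing q E u) (ha : polar q u a = 0) (ha' : polar q (E u) a = 0)
    (x : ι → F) : polar q x (app (rootK q E u a) x) = 2 * q x -
      q a * (d * (polar q x u * polar q x u) + polar q x (E u) * polar q x (E u)) -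
      polar q a (E a) * (polar q x u * polar q x (E u)) := by
  have h := mul_div_cancel₀ (polar q a (E a)) D.two
  rw [D.app_rootK hu ha ha']
  simp only [polar_add_right, polar_smul_right, smul_eq_mul, polar_self']
  linear_combination -(polar q x u * polar q x (E u)) * h

theorem Data.rootK_ksing {u a : ι → F} (hu : KSing q E u) (ha : polar q u a = 0) (ha' : polar q (E u) a = 0)
    {x : ι → F} (hx : KSing q E x) : KSing q E (app (rootK q E u a) x) :=
  ⟨by rw [Q_app, hx.1], by rw [D.rootK_comm hu ha ha', polar_app, hx.2]⟩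

/-- The image of a partner. -/
theorem Data.rootK_partner {u a f : ι → F} (hu : KSing q E u) (ha : polar q u a = 0) (ha' : polar q (E u) a = 0)
    (h1 : polar q f u = 0) (h2 : polar q f (E u) = 1) (h3 : polar q f a = 0) (h4 : polar q f (E a) = 0) :
    app (rootK q E u a) f = f + a + (-(polar q a (E a) / 2)) • u + (-q a) • E u := by
  rw [D.app_rootK hu ha ha', h1, h2, h3, h4]
  module

theorem Data.partner_aux {u y : ι → F} (hu : KSing q E u) (h1 : polar q y u = 0) (h2 : polar q y (E u) = 1) :
    KSing q E (y + (-polar q y (E y) / 2) • u + (-q y) • E u) := by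
  have huu : polar q u u = 0 := by rw [polar_self', hu.1, mul_zero]
  have hEE : polar q (E u) (E u) = 0 := by rw [D.adj', huu, mul_zero]
  have hEuu : polar q (E u) u = 0 := by rw [polar_comm, hu.2]
  constructor
  · simp only [QuadraticMap.map_add ⇑q, QuadraticMap.map_smul, polar_add_left, polar_smul_left, polar_smul_right,
      hu.1, D.q_E, hu.2, h1, h2, smul_eq_mul]
    ring
  · have hg : ∀ z, polar q z (E (y + (-polar q y (E y) / 2) • u + (-q y) • E u)) =
        polar q z (E y) + (-polar q y (E y) / 2) * polar q z (E u) + (-q y) * (d * polar q z u) := fun z => by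
      simp only [map_add, map_smul, D.sq, polar_add_right, polar_smul_right, smul_eq_mul]
    have h5 : polar q u (E y) = 1 := by rw [← D.adj, polar_comm, h2]
    have h6 : polar q (E u) (E y) = 0 := by rw [D.adj', polar_comm, h1, mul_zero]
    simp only [polar_add_left, polar_smul_left, smul_eq_mul, hg, huu, hEE, hEuu, hu.2, h1, h2, h5, h6]
    linear_combination -(mul_div_cancel₀ (polar q y (E y)) D.two)

/-- A partner inside an invariant subspace. -/
theorem Data.exists_partnerK {X : Submodule F (ι → F)} (hX : ∀ x ∈ X, E x ∈ X) {u y : ι → F} (hu : KSing q E u)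
    (huX : u ∈ X) (hyX : y ∈ X) (hy : polar q y u ≠ 0 ∨ polar q y (E u) ≠ 0) :
    ∃ f ∈ X, KSing q E f ∧ polar q f u = 0 ∧ polar q f (E u) = 1 := by
  set α := polar q y u with hα
  set β := polar q y (E u) with hβ
  have hD : d * (α * α) - β * β ≠ 0 := by
    rw [← neg_sub]
    exact neg_ne_zero.2 (D.den_ne hy.symm)
  set y' := (-β / (d * (α * α) - β * β)) • y + (α / (d * (α * α) - β * β)) • E y with hy'
  have hEy : polar q (E y) u = β := by rw [hβ, D.adj]
  have hEy' : polar q (E y) (E u) = d * α := by rw [hα, D.adj']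
  have h1 : polar q y' u = 0 := by
    rw [hy', polar_add_left, polar_smul_left, polar_smul_left, ← hα, hEy, smul_eq_mul, smul_eq_mul]
    field_simp
    ring
  have h2 : polar q y' (E u) = 1 := by
    rw [hy', polar_add_left, polar_smul_left, polar_smul_left, ← hβ, hEy', smul_eq_mul, smul_eq_mul,
      div_mul_eq_mul_div, div_mul_eq_mul_div, ← add_div, div_eq_one_iff_eq hD]
    ring
  have huu : polar q u u = 0 := by rw [polar_self', hu.1, mul_zero]
  refine ⟨_, X.add_mem (X.add_mem (X.add_mem (X.smul_mem _ hyX) (X.smul_mem _ (hX y hyX))) (X.smul_mem _ huX))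
    (X.smul_mem _ (hX u huX)), D.partner_aux hu h1 h2, ?_, ?_⟩
  · rw [polar_add_left, polar_add_left, polar_smul_left, polar_smul_left, h1, huu,
      polar_comm (f := ⇑q) (E u) u, hu.2]
    simp
  · rw [polar_add_left, polar_add_left, polar_smul_left, polar_smul_left, h2, hu.2, D.adj', huu]
    simp

theorem Data.perp_pair_stable (a : ι → F) {x : ι → F} (hx : x ∈ perp q ![a, E a]) : E x ∈ perp q ![a, E a] := by
  rw [perp_two] at hx ⊢
  refine ⟨?_, ?_⟩
  · rw [← D.adj]; exact hx.2
  · rw [D.adj', hx.1, mul_zero]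

theorem Data.perp_quad_stable (a b : ι → F) {x : ι → F} (hx : x ∈ perp q ![a, E a, b, E b]) :
    E x ∈ perp q ![a, E a, b, E b] := by
  rw [perp_four] at hx ⊢
  refine ⟨?_, ?_, ?_, ?_⟩
  · rw [← D.adj]; exact hx.2.1
  · rw [D.adj', hx.1, mul_zero]
  · rw [← D.adj]; exact hx.2.2.2
  · rw [D.adj', hx.2.2.1, mul_zero]

/-- Values of the pencil on an invariant subspace of dimension four. -/
theorem Data.exists_pencil {Y : Submodule F (ι → F)} (hY : ∀ x ∈ Y, E x ∈ Y) (hd : 4 ≤ Module.finrank F Y)
    {α β : F} (h : α ≠ 0 ∨ β ≠ 0) :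
    ∃ v ∈ Y, q v * (d * (α * α) + β * β) + polar q v (E v) * (α * β) ≠ 0 := by
  by_contra hc
  push Not at hc
  set A := d * (α * α) + β * β with hA
  set B := α * β with hB
  have hpol : ∀ v ∈ Y, ∀ w ∈ Y, A * polar q v w + 2 * B * polar q v (E w) = 0 := fun v hv w hw => by
    have h1 := hc _ (Y.add_mem hv hw)
    rw [E.map_add, polar_add_left, polar_add_right, polar_add_right, QuadraticMap.map_add ⇑q,
      polar_comm (f := ⇑q) w (E v), D.adj v w] at h1
    linear_combination h1 - hc v hv - hc w hw
  have hAB : A * A - 4 * d * (B * B) ≠ 0 := by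
    have e : A * A - 4 * d * (B * B) = (β * β - d * (α * α)) * (β * β - d * (α * α)) := by rw [hA, hB]; ring
    rw [e]
    exact mul_self_ne_zero.2 (D.den_ne h.symm)
  have hz : ∀ v ∈ Y, ∀ w ∈ Y, polar q v w = 0 := fun v hv w hw => by
    have h1 := hpol v hv w hw
    have h2 := hpol v hv _ (hY w hw)
    rw [D.sq, polar_smul_right, smul_eq_mul] at h2
    refine (mul_eq_zero.1 (show (A * A - 4 * d * (B * B)) * polar q v w = 0 by
      linear_combination A * h1 - 2 * B * h2)).resolve_left hAB
  have := D.minus Y fun v hv => by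
    have h1 := hz v hv v hv
    rw [polar_self'] at h1
    exact (mul_eq_zero.1 h1).resolve_left D.two
  omega

/-- A vector singular for both forms in a subspace of dimension at least five. -/
theorem Data.exists_ksing {X : Submodule F (ι → F)} (hX : 5 ≤ Module.finrank F X) :
    ∃ u ∈ X, u ≠ 0 ∧ KSing q E u := by
  obtain ⟨u, hu, hu0, h1, h2⟩ := exists_common_zero q.polarBilin (q.polarBilin.compl₂ E) hX
  refine ⟨u, hu, hu0, ?_, h2⟩
  rw [polarBilin_apply_apply, polar_self'] at h1
  exact (mul_eq_zero.1 h1).resolve_left D.two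

theorem Data.exists_partner_top {u : ι → F} (hu : KSing q E u) (hu0 : u ≠ 0) :
    ∃ f, KSing q E f ∧ polar q f u = 0 ∧ polar q f (E u) = 1 := by
  obtain ⟨y, hy⟩ := exists_polar_eq_one D.nondeg hu0
  obtain ⟨f, -, hf⟩ := D.exists_partnerK (X := ⊤) (fun _ _ => trivial) hu trivial (y := y) trivial
    (Or.inl (by rw [polar_comm, hy]; exact one_ne_zero))
  exact ⟨f, hf⟩

/-- A projection onto the orthogonal of a hyperbolic line over the extension field. -/
theorem Data.exists_proj {u f : ι → F} (hu : KSing q E u) (hf : KSing q E f) (h1 : polar q f u = 0)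
    (h2 : polar q f (E u) = 1) (x : ι → F) :
    ∃ w ∈ perp q ![u, E u, f, E f],
      x = w + polar q x (E f) • u + polar q x f • E u + polar q x (E u) • f + polar q x u • E f := by
  refine ⟨x - polar q x (E f) • u - polar q x f • E u - polar q x (E u) • f - polar q x u • E f, ?_, by abel⟩
  have huu : polar q u u = 0 := by rw [polar_self', hu.1, mul_zero]
  have hff : polar q f f = 0 := by rw [polar_self', hf.1, mul_zero]
  have a1 : polar q u (E u) = 0 := hu.2
  have a2 : polar q (E u) u = 0 := by rw [polar_comm, hu.2]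
  have a3 : polar q (E u) (E u) = 0 := by rw [D.adj', huu, mul_zero]
  have a4 : polar q u f = 0 := by rw [polar_comm, h1]
  have a5 : polar q (E u) f = 1 := by rw [polar_comm, h2]
  have a6 : polar q u (E f) = 1 := by rw [← D.adj, a5]
  have a7 : polar q (E u) (E f) = 0 := by rw [D.adj', a4, mul_zero]
  have a8 : polar q (E f) f = 0 := by rw [polar_comm, hf.2]
  have a9 : polar q (E f) (E f) = 0 := by rw [D.adj', hff, mul_zero]
  have b1 : polar q (E f) u = 1 := by rw [polar_comm, a6]
  have b2 : polar q (E f) (E u) = 0 := by rw [polar_comm, a7]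
  rw [perp_four]
  refine ⟨?_, ?_, ?_, ?_⟩ <;>
    simp [polar_sub_right, polar_smul_right, huu, hff, a1, a2, a3, a4, a5, a6, a7, a8, a9, b1, b2, h1, h2, hf.2,
      polar_comm (f := ⇑q) x]

end CfsgLib.OmegaEight.Ext
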