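import Cfsg.Agent.Lib.OmegaEight.Planes
import Cfsg.Agent.Lib.GeomClasses.OrthEich

/-!
Of two orthogonal four-spaces inside an eight-space of minus type, one contains a totally singular plane.
-/

set_option autoImplicit false
set_option linter.unusedSectionVars false

namespace CfsgLib.OmegaEight

open Matrix QuadraticMap CfsgLib.Orth CfsgLib.GeomClasses

variable {ι : Type} [Fintype ι] [DecidableEq ι] {F : Type*} [Field F] [Fintype F]
  {q : QuadraticForm F (ι → F)}

/-- A non-degenerate four-space without a totally singular plane is a singular pair plus an anisotropic plane. -/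
theorem exists_anisotropic_plane (hq : q.polarBilin.Nondegenerate) {W : Submodule F (ι → F)}
    (hW : ∀ x ∈ W, x ≠ 0 → ∃ y ∈ W, polar q x y ≠ 0) (hd : Module.finrank F W = 4)
    (hno : ¬ ∃ m : Submodule F (ι → F), m ≤ W ∧ Module.finrank F m = 2 ∧ ∀ x ∈ m, q x = 0) :
    ∃ s ∈ W, ∃ Z ≤ W, s ≠ 0 ∧ q s = 0 ∧ s ∉ Z ∧ Module.finrank F Z = 2 ∧ (∀ z ∈ Z, polar q s z = 0) ∧
      ∀ x ∈ Z, q x = 0 → x = 0 := by
  classical
  obtain ⟨s, hs, hs0, hqs⟩ := OrthTools.exists_singular hq W (by omega)
  obtain ⟨t, ht, hqt, hst⟩ := OrthTools.exists_partner hW hs hs0 hqs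
  obtain ⟨Y, hYW, hYd, hY, -, -⟩ := OrthClasses.remove_pair hq hW hs ht hqs hqt hst
  have hsY : s ∉ Y := fun h => one_ne_zero (α := F) (by rw [← hst, polar_comm, (hY s h).2])
  suffices hYa : ∀ x ∈ Y, q x = 0 → x = 0 by
    refine ⟨s, hs, Y, hYW, hs0, hqs, hsY, le_antisymm ?_ (by omega), fun z hz => (hY z hz).1, hYa⟩
    by_contra h3
    obtain ⟨x, hx, hx0, hqx⟩ := OrthTools.exists_singular hq Y (by omega)
    exact hx0 (hYa x hx hqx)
  intro x hx hqx
  by_contra hx0
  refine hno ⟨Submodule.span F ({s, x} : Set (ι → F)), Submodule.span_le.2 ?_, ?_, ?_⟩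
  · rintro y (rfl | rfl)
    · exact hs
    · exact hYW hx
  · refine le_antisymm (OrthEich.finrank_pair_le s x) ?_
    have h1 : Submodule.span F ({x} : Set (ι → F)) < Submodule.span F ({s, x} : Set (ι → F)) :=
      lt_of_le_of_ne (Submodule.span_mono (by simp)) fun h => hsY ((Submodule.span_singleton_le_iff_mem _ _).2 hx
        (h ▸ Submodule.subset_span (by simp)))
    have := Submodule.finrank_lt_finrank_of_lt h1
    rw [finrank_span_singleton hx0] at this
    omega
  · intro y hy
    obtain ⟨a, b, rfl⟩ := Submodule.mem_span_pair.1 hy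
    rw [QuadraticMap.map_add ⇑q, QuadraticMap.map_smul, QuadraticMap.map_smul, hqs, hqx, polar_smul_left,
      polar_smul_right, (hY x hx).1]
    simp

/-- One of two orthogonal four-spaces contains a totally singular plane. -/
theorem exists_singular_plane_side (hq : q.polarBilin.Nondegenerate)
    (hminus : ∀ X : Submodule F (ι → F), (∀ x ∈ X, q x = 0) → Module.finrank F X < 4)
    {W U : Submodule F (ι → F)} (hW : ∀ x ∈ W, x ≠ 0 → ∃ y ∈ W, polar q x y ≠ 0)
    (hU : ∀ x ∈ U, x ≠ 0 → ∃ y ∈ U, polar q x y ≠ 0) (hWd : Module.finrank F W = 4) (hUd : Module.finrank F U = 4)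
    (hWU : ∀ w ∈ W, ∀ u ∈ U, polar q w u = 0) :
    (∃ m : Submodule F (ι → F), m ≤ W ∧ Module.finrank F m = 2 ∧ ∀ x ∈ m, q x = 0) ∨
      ∃ m : Submodule F (ι → F), m ≤ U ∧ Module.finrank F m = 2 ∧ ∀ x ∈ m, q x = 0 := by
  classical
  by_contra h
  rw [not_or] at h
  have hdisj : Disjoint W U := Submodule.disjoint_def.2 fun x hxW hxU => by
    by_contra h0
    obtain ⟨y, hy, hxy⟩ := hW x hxW h0
    exact hxy (by rw [polar_comm]; exact hWU y hy x hxU)
  obtain ⟨s, hs, Z, hZ, hs0, hqs, hsZ, hZd, hsZo, hZa⟩ := exists_anisotropic_plane hq hW hWd h.1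
  obtain ⟨s', hs', R, hR, hs0', hqs', hsR, hRd, hsRo, hRa⟩ := exists_anisotropic_plane hq hU hUd h.2
  obtain ⟨X, hX, hXd, hXq⟩ := exists_singular_plane (hdisj.mono hZ hR) (fun z hz r hr => hWU z (hZ hz) r (hR hr))
    hZd hZa hRd hRa
  set P := Submodule.span F ({s, s'} : Set (ι → F)) with hP
  have hdisj2 : Disjoint P (Z ⊔ R) := Submodule.disjoint_def.2 fun x hxP hxZ => by
    obtain ⟨a, b, rfl⟩ := Submodule.mem_span_pair.1 hxP
    obtain ⟨z, hz, r, hr, he⟩ := Submodule.mem_sup.1 hxZ
    have h1 : z - a • s = b • s' - r := by linear_combination (norm := module) he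
    have h2 : z - a • s = 0 := Submodule.disjoint_def.1 hdisj _ (W.sub_mem (hZ hz) (W.smul_mem _ hs))
      (h1 ▸ U.sub_mem (U.smul_mem _ hs') (hR hr))
    have ha : a = 0 := by
      by_contra ha
      exact hsZ ((Submodule.smul_mem_iff Z ha).1 (by rwa [← sub_eq_zero.1 h2]))
    have h3 : b • s' - r = 0 := h1 ▸ h2
    have hb : b = 0 := by
      by_contra hb
      exact hsR ((Submodule.smul_mem_iff R hb).1 (by rwa [sub_eq_zero.1 h3]))
    rw [ha, hb, zero_smul, zero_smul, add_zero]
  have hPd : Module.finrank F P = 2 := by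
    refine le_antisymm (OrthEich.finrank_pair_le s s') ?_
    have h1 : Submodule.span F ({s} : Set (ι → F)) < P :=
      lt_of_le_of_ne (Submodule.span_mono (by simp)) fun e => hs0' (Submodule.disjoint_def.1 hdisj _
        ((Submodule.span_singleton_le_iff_mem _ _).2 hs (e ▸ Submodule.subset_span (by simp))) hs')
    have := Submodule.finrank_lt_finrank_of_lt h1
    rw [finrank_span_singleton hs0] at this
    omega
  have hlt := hminus (P ⊔ X) fun x hx => by
    obtain ⟨p, hp, y, hy, rfl⟩ := Submodule.mem_sup.1 hx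
    obtain ⟨z, hz, r, hr, rfl⟩ := Submodule.mem_sup.1 (hX hy)
    obtain ⟨a, b, rfl⟩ := Submodule.mem_span_pair.1 hp
    have h4 := hXq _ hy
    simp only [QuadraticMap.map_add ⇑q, QuadraticMap.map_smul, polar_add_left, polar_add_right, polar_smul_left,
      polar_smul_right, hqs, hqs', hWU s hs s' hs', hsZo z hz, hWU s hs r (hR hr), hsRo r hr,
      polar_comm (f := ⇑q) s' z, hWU z (hZ hz) s' hs', smul_eq_mul] at h4 ⊢
    linear_combination h4
  have h5 := Submodule.finrank_sup_add_finrank_inf_eq P X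
  rw [(hdisj2.mono_right hX).eq_bot, finrank_bot, hPd, hXd] at h5
  omega

end CfsgLib.OmegaEight
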