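import Cfsg.Agent.Lib.GeomClasses.OrthSubspaceTools
import Cfsg.Agent.Lib.AutPOmega.MinusPlane

/-!
Non-degenerate planes take every value, and two orthogonal anisotropic planes contain a totally singular plane.
-/

set_option autoImplicit false
set_option linter.unusedSectionVars false

namespace CfsgLib.OmegaEight

open Matrix QuadraticMap CfsgLib.Orth CfsgLib.GeomClasses CfsgLib.GeomClasses.OrthEich

variable {ι : Type} [Fintype ι] [DecidableEq ι] {F : Type*} [Field F] [Fintype F]
  {q : QuadraticForm F (ι → F)}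

/-- A non-degenerate subspace of dimension at least two takes every value. -/
theorem exists_value_plane {X : Submodule F (ι → F)}
    (hX : ∀ x ∈ X, x ≠ 0 → ∃ y ∈ X, polar q x y ≠ 0) (hd : 2 ≤ Module.finrank F X) (c : F) :
    ∃ x ∈ X, q x = c := by
  have haniso : ∃ a ∈ X, q a ≠ 0 := by
    by_contra h
    push Not at h
    obtain ⟨a, ha, ha0⟩ := Submodule.exists_mem_ne_zero_of_ne_bot (p := X) fun h0 => by
      rw [h0, finrank_bot] at hd; omega
    obtain ⟨y, hy, hay⟩ := hX a ha ha0
    exact hay (by rw [QuadraticMap.polar, h a ha, h y hy, h _ (X.add_mem ha hy)]; simp)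
  obtain ⟨a, ha, hqa⟩ := haniso
  by_cases h2 : (2 : F) = 0
  · have : CharP F 2 := CharTwo.of_one_ne_zero_of_two_eq_zero one_ne_zero h2
    obtain ⟨r, hr⟩ := FiniteField.isSquare_of_char_two (ringChar.eq F 2) (c / q a)
    exact ⟨r • a, X.smul_mem _ ha, by
      rw [QuadraticMap.map_smul, smul_eq_mul, ← hr, div_mul_cancel₀ _ hqa]⟩
  · have haa : polar q a a ≠ 0 := by rw [polar_self']; exact mul_ne_zero h2 hqa
    obtain ⟨b, hb, hab, hqb⟩ : ∃ b ∈ X, polar q a b = 0 ∧ q b ≠ 0 := by
      obtain ⟨y, hy, hyn⟩ : ∃ y ∈ X, y ∉ Submodule.span F ({a} : Set (ι → F)) := by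
        by_contra h
        push Not at h
        have h1 := Submodule.finrank_mono (show X ≤ Submodule.span F ({a} : Set (ι → F)) from h)
        rw [finrank_span_singleton (fun h0 => hqa (by rw [h0, QuadraticMap.map_zero]))] at h1
        omega
      set b := y - (polar q a y / polar q a a) • a with hb
      have hbX : b ∈ X := X.sub_mem hy (X.smul_mem _ ha)
      have hab : polar q a b = 0 := by
        rw [hb, polar_sub_right, polar_smul_right, smul_eq_mul, div_mul_cancel₀ _ haa, sub_self]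
      have hb0 : b ≠ 0 := fun h0 => hyn (by
        have h1 : y = (polar q a y / polar q a a) • a := sub_eq_zero.1 (hb.symm.trans h0)
        rw [h1]
        exact Submodule.smul_mem _ _ (Submodule.mem_span_singleton_self a))
      by_cases hqb : q b = 0
      · -- a singular vector with a partner: replace it by an anisotropic one orthogonal to `a`
        obtain ⟨z, hz, hbz⟩ := hX b hbX hb0
        set z' := z - (polar q a z / polar q a a) • a with hz'
        have haz : polar q a z' = 0 := by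
          rw [hz', polar_sub_right, polar_smul_right, smul_eq_mul, div_mul_cancel₀ _ haa, sub_self]
        have hz'X : z' ∈ X := X.sub_mem hz (X.smul_mem _ ha)
        have hbz' : polar q b z' ≠ 0 := by
          rw [hz', polar_sub_right, polar_smul_right, polar_comm (f := ⇑q) b a, hab, smul_zero, sub_zero]
          exact hbz
        by_cases hqz : q z' = 0
        · refine ⟨b + z', X.add_mem hbX hz'X, by rw [polar_add_right, hab, haz, add_zero], ?_⟩
          rw [QuadraticMap.map_add ⇑q, hqb, hqz, zero_add, zero_add]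
          exact hbz'
        · exact ⟨z', hz'X, haz, hqz⟩
      · exact ⟨b, hbX, hab, hqb⟩
    obtain ⟨x, y, hxy⟩ := CfsgLib.Orth.exists_binary h2 hqa hqb c
    refine ⟨x • a + y • b, X.add_mem (X.smul_mem _ ha) (X.smul_mem _ hb), ?_⟩
    rw [QuadraticMap.map_add ⇑q, QuadraticMap.map_smul, QuadraticMap.map_smul, polar_smul_left, polar_smul_right,
      hab, ← hxy]
    simp only [smul_eq_mul]
    ring

/-- An anisotropic plane is non-degenerate. -/
theorem plane_nondegenerate {X : Submodule F (ι → F)} (hd : Module.finrank F X = 2)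
    (han : ∀ x ∈ X, q x = 0 → x = 0) : ∀ x ∈ X, x ≠ 0 → ∃ y ∈ X, polar q x y ≠ 0 := by
  intro r hr hr0
  by_contra h
  push Not at h
  have hqr : q r ≠ 0 := fun h0 => hr0 (han r hr h0)
  by_cases h2 : (2 : F) = 0
  · have : CharP F 2 := CharTwo.of_one_ne_zero_of_two_eq_zero one_ne_zero h2
    obtain ⟨b, hb, hbn⟩ : ∃ b ∈ X, b ∉ Submodule.span F ({r} : Set (ι → F)) := by
      by_contra h'
      push Not at h'
      have h1 := Submodule.finrank_mono (show X ≤ Submodule.span F ({r} : Set (ι → F)) from h')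
      rw [finrank_span_singleton hr0] at h1
      omega
    obtain ⟨t, ht⟩ := FiniteField.isSquare_of_char_two (ringChar.eq F 2) (q b / q r)
    have h0 := han (b + t • r) (X.add_mem hb (X.smul_mem _ hr)) (by
      rw [QuadraticMap.map_add ⇑q, QuadraticMap.map_smul, polar_smul_right, polar_comm (f := ⇑q) b r, h b hb,
        smul_eq_mul, smul_zero, add_zero, ← ht, div_mul_cancel₀ _ hqr]
      linear_combination q b * h2)
    exact hbn (Submodule.mem_span_singleton.2 ⟨-t, by rw [neg_smul, eq_neg_of_add_eq_zero_left h0]⟩)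
  · have := h r hr
    rw [polar_self'] at this
    exact mul_ne_zero h2 hqr this

/-- Coordinates of an anisotropic plane with a prescribed first value. -/
theorem exists_plane_coords {X : Submodule F (ι → F)} (hd : Module.finrank F X = 2)
    (han : ∀ x ∈ X, q x = 0 → x = 0) {c : F} (hc : c ≠ 0) :
    ∃ e₁ ∈ X, ∃ e₂ ∈ X, ∃ a b : F, CfsgLib.FieldPOmega.Aniso a b ∧
      (∀ x y : F, q (x • e₁ + y • e₂) = c * (x ^ 2 + a * x * y + b * y ^ 2)) ∧
      ∀ x y : F, x • e₁ + y • e₂ = 0 → x = 0 ∧ y = 0 := by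
  obtain ⟨e₁, he₁, hq₁⟩ := exists_value_plane (plane_nondegenerate hd han) hd.ge c
  have he0 : e₁ ≠ 0 := fun h => hc (by rw [← hq₁, h, QuadraticMap.map_zero])
  obtain ⟨e₂, he₂, he₂n⟩ : ∃ y ∈ X, y ∉ Submodule.span F ({e₁} : Set (ι → F)) := by
    by_contra h
    push Not at h
    have h1 := Submodule.finrank_mono (show X ≤ Submodule.span F ({e₁} : Set (ι → F)) from h)
    rw [finrank_span_singleton he0] at h1
    omega
  have hind : ∀ x y : F, x • e₁ + y • e₂ = 0 → x = 0 ∧ y = 0 := by
    intro x y h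
    by_cases hy : y = 0
    · rw [hy, zero_smul, add_zero] at h
      exact ⟨(smul_eq_zero.1 h).resolve_right he0, hy⟩
    · refine absurd (Submodule.mem_span_singleton.2 ⟨-(x / y), ?_⟩) he₂n
      have h' := congrArg (fun t => y⁻¹ • t) h
      simp only [smul_add, smul_smul, inv_mul_cancel₀ hy, one_smul, smul_zero] at h'
      rw [neg_smul, div_eq_inv_mul, eq_comm, eq_neg_iff_add_eq_zero, add_comm]
      exact h'
  have hval : ∀ x y : F, q (x • e₁ + y • e₂) =
      c * (x ^ 2 + polar q e₁ e₂ / c * x * y + q e₂ / c * y ^ 2) := by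
    intro x y
    rw [QuadraticMap.map_add ⇑q, QuadraticMap.map_smul, QuadraticMap.map_smul, polar_smul_left, polar_smul_right,
      hq₁]
    simp only [smul_eq_mul]
    field_simp
    ring
  refine ⟨e₁, he₁, e₂, he₂, _, _, fun x y h => ?_, hval, hind⟩
  refine hind x y (han _ (X.add_mem (X.smul_mem _ he₁) (X.smul_mem _ he₂)) ?_)
  rw [hval, h, mul_zero]

/-- Two orthogonal anisotropic planes contain a totally singular plane. -/
theorem exists_singular_plane {Z R : Submodule F (ι → F)} (hdisj : Disjoint Z R)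
    (hZR : ∀ z ∈ Z, ∀ r ∈ R, polar q z r = 0)
    (hZd : Module.finrank F Z = 2) (hZa : ∀ x ∈ Z, q x = 0 → x = 0)
    (hRd : Module.finrank F R = 2) (hRa : ∀ x ∈ R, q x = 0 → x = 0) :
    ∃ X : Submodule F (ι → F), X ≤ Z ⊔ R ∧ Module.finrank F X = 2 ∧ ∀ x ∈ X, q x = 0 := by
  obtain ⟨z₁, hz₁, z₂, hz₂, a, b, hab, hZq, hZi⟩ := exists_plane_coords hZd hZa (one_ne_zero (α := F))
  obtain ⟨r₁, hr₁, r₂, hr₂, a', b', hab', hRq, hRi⟩ :=
    exists_plane_coords hRd hRa (neg_ne_zero.2 (one_ne_zero (α := F)))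
  obtain ⟨N, hN, hNq⟩ := CfsgLib.FieldPOmega.exists_plane_iso hab hab'
  let L : (Fin 2 → F) →ₗ[F] (ι → F) :=
    { toFun := fun v => v 0 • z₁ + v 1 • z₂ + ((N *ᵥ v) 0 • r₁ + (N *ᵥ v) 1 • r₂)
      map_add' := fun v w => by simp only [mulVec_add, Pi.add_apply]; module
      map_smul' := fun t v => by simp only [mulVec_smul, Pi.smul_apply, RingHom.id_apply, smul_eq_mul]; module }
  have hLZ : ∀ v : Fin 2 → F, v 0 • z₁ + v 1 • z₂ ∈ Z := fun v => Z.add_mem (Z.smul_mem _ hz₁) (Z.smul_mem _ hz₂)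
  have hLR : ∀ v : Fin 2 → F, (N *ᵥ v) 0 • r₁ + (N *ᵥ v) 1 • r₂ ∈ R := fun v =>
    R.add_mem (R.smul_mem _ hr₁) (R.smul_mem _ hr₂)
  have hinj : Function.Injective L := by
    refine (injective_iff_map_eq_zero _).2 fun v hv => ?_
    have h1 : v 0 • z₁ + v 1 • z₂ = 0 := Submodule.disjoint_def.1 hdisj _ (hLZ v) (by
      rw [eq_neg_of_add_eq_zero_left (show v 0 • z₁ + v 1 • z₂ + ((N *ᵥ v) 0 • r₁ + (N *ᵥ v) 1 • r₂) = 0 from hv)]
      exact R.neg_mem (hLR v))
    funext i
    fin_cases i
    · exact (hZi _ _ h1).1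
    · exact (hZi _ _ h1).2
  refine ⟨LinearMap.range L, ?_, (LinearMap.finrank_range_of_inj hinj).trans (by simp), ?_⟩
  · rintro _ ⟨v, rfl⟩
    exact Submodule.add_mem_sup (hLZ v) (hLR v)
  rintro _ ⟨v, rfl⟩
  show q (v 0 • z₁ + v 1 • z₂ + ((N *ᵥ v) 0 • r₁ + (N *ᵥ v) 1 • r₂)) = 0
  rw [QuadraticMap.map_add ⇑q, hZR _ (hLZ v) _ (hLR v), hZq, hRq, add_zero]
  have h := hNq v
  simp only [CfsgLib.FieldPOmega.planeVal] at h
  linear_combination -h

end CfsgLib.OmegaEight
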