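import Cfsg.Agent.Lib.GeomClasses.OrthSubspaceTools
import Cfsg.Agent.Lib.OmegaEight.Planes

/-!
Stabilisers of non-degenerate subspaces are maximal from dimension eight on: the argument of
`OrthSubspace.maximal_nondegenerate`, with a separate step when the orthogonal complement has dimension four.
There the complement contains a totally singular plane and the whole space no totally singular four-space.
-/

set_option autoImplicit false
set_option linter.unusedSectionVars false

namespace CfsgLib.OmegaEight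

open Matrix QuadraticMap CfsgLib.Maximal.TensorTools CfsgLib.Orth CfsgLib.GeomClasses CfsgLib.GeomClasses.OrthEich
  CfsgLib.GeomClasses.OrthSubspace

variable {ι : Type} [Fintype ι] [DecidableEq ι] {F : Type*} [Field F] [Fintype F]
  {q : QuadraticForm F (ι → F)} (hq : q.polarBilin.Nondegenerate) (hn : 8 ≤ Fintype.card ι)
include hq hn

set_option maxHeartbeats 1600000 in
/-- The stabilizer of a non-degenerate subspace is maximal. -/
theorem maximal_nondegenerate_four {W : Submodule F (ι → F)} (hW0 : W ≠ ⊥)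
    (hW : ∀ x ∈ W, x ≠ 0 → ∃ y ∈ W, polar q x y ≠ 0)
    (hle2 : 2 * Module.finrank F W ≤ Fintype.card ι)
    (hsw : 2 * Module.finrank F W = Fintype.card ι →
      ∀ g ∈ commutator (O q), ¬ ∀ x ∈ W, app g x ∈ OrthTools.orth q W)
    (hex : ¬ (Module.finrank F W = 2 ∧ Fintype.card F ≤ 3 ∧ ∃ s ∈ W, s ≠ 0 ∧ q s = 0))
    (hplus : Module.finrank F (OrthTools.orth q W) < 5 → ∃ m : Submodule F (ι → F),
      m ≤ OrthTools.orth q W ∧ Module.finrank F m = 2 ∧ ∀ x ∈ m, q x = 0)
    (hminus : Module.finrank F (OrthTools.orth q W) < 5 → ∀ X : Submodule F (ι → F),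
      (∀ x ∈ X, q x = 0) → Module.finrank F X < 4) :
    Cfsg.Geo.IsMaximalIn (commutator (O q)) (stab q W ⊓ commutator (O q)) := by
  classical
  have hn7 : 7 ≤ Fintype.card ι := by omega
  set U := OrthTools.orth q W with hUdef
  have hdU : Module.finrank F U = Fintype.card ι - Module.finrank F W := OrthTools.finrank_orth hq W
  have hUn : ∀ x ∈ U, x ≠ 0 → ∃ y ∈ U, polar q x y ≠ 0 := OrthTools.orth_nondegenerate hq hW
  have hWU : ∀ w ∈ W, ∀ u ∈ U, polar q w u = 0 := fun w hw u hu => OrthTools.mem_orth.1 hu w hw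
  have hUW : ∀ u ∈ U, ∀ w ∈ W, polar q u w = 0 := fun u hu w hw => by rw [polar_comm]; exact hWU w hw u hu
  have hdisj : Disjoint W U := Submodule.disjoint_def.2 fun x hxW hxU => by
    by_contra h0
    obtain ⟨y, hy, hxy⟩ := hW x hxW h0
    exact hxy (hUW x hxU y hy)
  have hcompl : IsCompl W U := ⟨hdisj, codisjoint_iff.2 (Submodule.eq_top_of_finrank_eq (by
    have h1 := Submodule.finrank_sup_add_finrank_inf_eq W U
    rw [hdisj.eq_bot, finrank_bot] at h1
    rw [Module.finrank_fintype_fun_eq_card]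
    omega))⟩
  have hsplit : ∀ x, ∃ w ∈ W, ∃ u ∈ U, w + u = x := fun x =>
    Submodule.mem_sup.1 (hcompl.sup_eq_top ▸ Submodule.mem_top (x := x))
  have hW1 : W ≠ ⊤ := fun h => by
    rw [h, finrank_top, Module.finrank_fintype_fun_eq_card] at hle2; omega
  refine ⟨lt_of_le_of_ne inf_le_right fun he => not_le_stab hq (by omega) hW0 hW1 (by rw [← he]; exact inf_le_left),
    fun M hle hMC => ?_⟩
  by_cases hall : M ≤ stab q W
  · exact Or.inl (le_antisymm (le_inf hall hMC) hle)
  right
  refine le_antisymm hMC ?_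
  have hsU : ∀ h : O q, h ∈ stab q U → h ∈ stab q W := fun h hh => mem_stab.2 fun x hx => by
    obtain ⟨w, hw, u, hu, hwu⟩ := hsplit (app h x)
    have hu0 : u = 0 := by
      by_contra h0
      obtain ⟨y, hy, huy⟩ := hUn u hu h0
      apply huy
      have h1 : polar q (app h x) y = 0 := by
        rw [← app_app_inv h y, polar_app]
        exact hWU x hx _ (mem_stab.1 ((stab q U).inv_mem hh) y hy)
      rwa [← hwu, polar_add_left, hWU w hw y hy, zero_add] at h1
    rw [← hwu, hu0, add_zero]
    exact hw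
  have hEU : ∀ u ∈ U, ∀ a ∈ U, q u = 0 → polar q u a = 0 → eich q u a ∈ M := fun u hu a ha hqu hua =>
    hle ⟨mem_stab.2 fun x hx => by
      rw [app_eich hqu hua, hWU x hx u hu, hWU x hx a ha]
      simpa using hx, eich_mem hq hn7 hqu hua⟩
  have hEW : ∀ u ∈ W, ∀ a ∈ W, q u = 0 → polar q u a = 0 → eich q u a ∈ M := fun u hu a ha hqu hua =>
    hle ⟨mem_stab.2 fun x hx => by
      rw [app_eich hqu hua]
      exact W.add_mem (W.add_mem hx (W.smul_mem _ ha)) (W.smul_mem _ hu), eich_mem hq hn7 hqu hua⟩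
  obtain ⟨g, hgM, hg⟩ := SetLike.not_le_iff_exists.1 hall
  -- a root element of `M` moving `U`
  obtain ⟨v, c, hqv, hvc, hhM, x₁, hx₁, hhx₁⟩ : ∃ v c, q v = 0 ∧ polar q v c = 0 ∧ eich q v c ∈ M ∧
      ∃ x ∈ U, app (eich q v c) x ∉ U := by
    by_contra hc
    push Not at hc
    have hin : ∀ u ∈ U, ∀ a ∈ U, q u = 0 → polar q u a = 0 → ∀ x ∈ U,
        app (eich q (app g u) (app g a)) x ∈ U := by
      intro u hu a ha hqu hua x hx
      refine hc _ _ (by rw [Q_app, hqu]) (by rw [polar_app, hua]) ?_ x hx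
      rw [← eich_conj hqu hua]
      exact M.mul_mem (M.mul_mem hgM (hEU u hu a ha hqu hua)) (M.inv_mem hgM)
    set U' := U.map (app g) with hU'
    have hdU' : Module.finrank F U' = Module.finrank F U :=
      (Submodule.equivMapOfInjective _ (app_injective g) U).finrank_eq.symm
    have hU'n : ∀ x ∈ U', x ≠ 0 → ∃ y ∈ U', polar q x y ≠ 0 := by
      rintro _ ⟨u, hu, rfl⟩ h0
      obtain ⟨y, hy, huy⟩ := hUn u hu fun h => h0 (by rw [h, map_zero])
      exact ⟨_, ⟨y, hy, rfl⟩, by rwa [polar_app]⟩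
    by_cases hx : ∃ x ∈ U, ∃ y ∈ U', polar q x y ≠ 0
    · obtain ⟨x, hx, y, hy, hxy⟩ := hx
      have hsub : U' ≤ U := absorb hq hU'n (by omega) (fun w hw a ha hqw hwa s hs => by
        obtain ⟨u, hu, rfl⟩ := hw
        obtain ⟨b, hb, rfl⟩ := ha
        exact hin u hu b hb (by rwa [Q_app] at hqw) (by rwa [polar_app] at hwa) s hs) hx hy hxy
      exact hg (hsU g (mem_stab.2 fun z hz => hsub ⟨z, hz, rfl⟩))
    · push Not at hx
      have hsub : U ≤ OrthTools.orth q U' := fun z hz => OrthTools.mem_orth.2 fun y hy => by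
        rw [polar_comm]; exact hx z hz y hy
      have h1 := Submodule.finrank_mono hsub
      rw [OrthTools.finrank_orth hq U', hdU', hdU] at h1
      have heq : U = OrthTools.orth q U' := Submodule.eq_of_le_of_finrank_eq hsub (by
        rw [OrthTools.finrank_orth hq U', hdU', hdU]; omega)
      refine hsw (by omega) g (hMC hgM) fun z hz => ?_
      rw [heq, OrthTools.mem_orth]
      rintro _ ⟨u, hu, rfl⟩
      rw [polar_app, hUW u hu z hz]
  -- an Eichler element with centre in `U` and axis outside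
  have hUd : 4 ≤ Module.finrank F U := by omega
  have hmate : ∀ u ∈ U, u ≠ 0 → q u = 0 → ∃ u' ∈ U, u' ∉ Submodule.span F ({u} : Set (ι → F)) ∧ q u' = 0 ∧
      polar q u u' = 0 := by
    intro u hu hu0 hqu
    by_cases h5 : 5 ≤ Module.finrank F U
    · obtain ⟨C, hC⟩ := Submodule.exists_isCompl (Submodule.span F ({u} : Set (ι → F)))
      set X := U ⊓ OrthTools.orth q (Submodule.span F ({u} : Set (ι → F))) with hX
      obtain ⟨x, ⟨hxX, hxC⟩, hx0, hqx⟩ := OrthTools.exists_singular hq (X ⊓ C) (by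
        have h1 := Submodule.finrank_add_eq_of_isCompl hC
        have h2 := Submodule.finrank_sup_add_finrank_inf_eq X C
        have h3 := Submodule.finrank_le (X ⊔ C)
        have h4 : Module.finrank F U ≤ Module.finrank F X + 1 := OrthTools.finrank_inf_orth hq _ u
        rw [Module.finrank_fintype_fun_eq_card] at h1 h3
        rw [finrank_span_singleton hu0] at h1
        omega)
      exact ⟨x, hxX.1, fun h => hx0 (Submodule.disjoint_def.1 hC.disjoint x h hxC), hqx,
        (OrthTools.mem_inf_orth hxX).2⟩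
    obtain ⟨m, hmU, hmd, hmq⟩ := hplus (by omega)
    by_cases hum : u ∈ m
    · obtain ⟨x, hx, hxn⟩ : ∃ x ∈ m, x ∉ Submodule.span F ({u} : Set (ι → F)) := by
        by_contra h
        push Not at h
        have h1 := Submodule.finrank_mono (show m ≤ Submodule.span F ({u} : Set (ι → F)) from h)
        rw [finrank_span_singleton hu0] at h1
        omega
      exact ⟨x, hmU hx, hxn, hmq x hx, OrthClasses.polar_of_singular hmq hum hx⟩
    · obtain ⟨x, hx, hx0⟩ := Submodule.exists_mem_ne_zero_of_ne_bot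
        (p := m ⊓ OrthTools.orth q (Submodule.span F ({u} : Set (ι → F)))) fun h => by
          have h1 := OrthTools.finrank_inf_orth hq m u
          rw [h, finrank_bot] at h1
          omega
      refine ⟨x, hmU hx.1, fun h => ?_, hmq x hx.1, (OrthTools.mem_inf_orth hx).2⟩
      obtain ⟨t, rfl⟩ := Submodule.mem_span_singleton.1 h
      exact hum ((m.smul_mem_iff (fun h0 => hx0 (by rw [h0, zero_smul]))).1 hx.1)
  -- a singular vector of `U` kept inside `U` is enough
  have hgood : ∀ h ∈ M, (∃ x ∈ U, app h x ∉ U) → (∃ u ∈ U, u ≠ 0 ∧ q u = 0 ∧ app h u ∈ U) →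
      ∃ u ∈ U, u ≠ 0 ∧ q u = 0 ∧ ∃ a, polar q u a = 0 ∧ a ∉ U ∧ eich q u a ∈ M := by
    rintro h hhM ⟨x₀, hx₀, hhx₀⟩ ⟨u₁, hu₁, hu₁0, hqu₁, hhu₁⟩
    by_contra hc
    push Not at hc
    have hh : ∀ u ∈ U, u ≠ 0 → q u = 0 → app h u ∈ U → ∀ a ∈ U, polar q u a = 0 → app h a ∈ U := by
      intro u hu hu0 hqu hhu a ha hua
      by_contra hout
      refine hc _ hhu (fun h0 => hu0 (app_injective h (by rw [h0, map_zero]))) (by rw [Q_app, hqu]) _
        (by rw [polar_app, hua]) hout ?_
      rw [← eich_conj hqu hua]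
      exact M.mul_mem (M.mul_mem hhM (hEU u hu a ha hqu hua)) (M.inv_mem hhM)
    apply hhx₀
    obtain ⟨u₂, hu₂, hu₂', hqu₂, hu12⟩ := hmate u₁ hu₁ hu₁0 hqu₁
    have hu₂0 : u₂ ≠ 0 := fun h0 => hu₂' (by rw [h0]; exact zero_mem _)
    have hhu₂ := hh u₁ hu₁ hu₁0 hqu₁ hhu₁ u₂ hu₂ hu12
    obtain ⟨z₀, h1, h2⟩ := exists_polar_eq_zero_one hq hu₂'
    obtain ⟨w, hw, z, hz, rfl⟩ := hsplit z₀
    rw [polar_add_right, hUW u₁ hu₁ w hw, zero_add] at h1
    rw [polar_add_right, hUW u₂ hu₂ w hw, zero_add] at h2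
    set t := polar q u₂ x₀
    have e1 := hh u₁ hu₁ hu₁0 hqu₁ hhu₁ (t • z) (U.smul_mem t hz) (by rw [polar_smul_right, h1, smul_zero])
    have e2 := hh u₂ hu₂ hu₂0 hqu₂ hhu₂ (x₀ - t • z) (U.sub_mem hx₀ (U.smul_mem t hz))
      (by rw [polar_sub_right, polar_smul_right, h2, smul_eq_mul, mul_one, sub_self])
    have := U.add_mem e2 e1
    rwa [← map_add, sub_add_cancel] at this
  -- a centre in `W` with axis outside `W` is enough
  have hswap : ∀ w ∈ W, w ≠ 0 → q w = 0 → ∀ a, polar q w a = 0 → a ∉ W → eich q w a ∈ M →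
      ∃ u ∈ U, u ≠ 0 ∧ q u = 0 ∧ ∃ a, polar q u a = 0 ∧ a ∉ U ∧ eich q u a ∈ M := by
    intro w hw hw0 hqw a hwa haW hEa
    obtain ⟨aW, haWm, b, hb, rfl⟩ := hsplit a
    have hwb : polar q w b = 0 := hWU w hw b hb
    have hwaW : polar q w aW = 0 := by rwa [polar_add_right, hwb, add_zero] at hwa
    have hb0 : b ≠ 0 := fun h => haW (by rw [h, add_zero]; exact haWm)
    have hEb : eich q w b ∈ M := by
      have h1 := M.mul_mem (hEW w hw (-aW) (W.neg_mem haWm) hqw (by rw [polar_neg_right, hwaW, neg_zero])) hEa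
      rwa [eich_add hqw (by rw [polar_neg_right, hwaW, neg_zero]) hwa, neg_add_cancel_left] at h1
    obtain ⟨u, hu, hu0, hqu, hbu, hbn⟩ : ∃ u ∈ U, u ≠ 0 ∧ q u = 0 ∧ polar q b u = 0 ∧
        b ∉ Submodule.span F ({u} : Set (ι → F)) := by
      obtain ⟨u, hu, hu0, hqu⟩ := OrthTools.exists_singular hq
        (U ⊓ OrthTools.orth q (Submodule.span F ({b} : Set (ι → F)))) (by
          have : Module.finrank F U ≤ _ + 1 := OrthTools.finrank_inf_orth hq U b
          omega)
      obtain ⟨huU, hbu⟩ := OrthTools.mem_inf_orth hu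
      by_cases hin : b ∈ Submodule.span F ({u} : Set (ι → F))
      · obtain ⟨t, rfl⟩ := Submodule.mem_span_singleton.1 hin
        obtain ⟨u', hu', hu'n, hqu', huu'⟩ := hmate u huU hu0 hqu
        refine ⟨u', hu', fun h0 => hu'n (by rw [h0]; exact zero_mem _), hqu',
          by rw [polar_smul_left, huu', smul_zero], fun h => hu'n ?_⟩
        obtain ⟨r, hr⟩ := Submodule.mem_span_singleton.1 h
        have hr0 : r ≠ 0 := fun h0 => hb0 (by rw [← hr, h0, zero_smul])
        exact Submodule.mem_span_singleton.2 ⟨r⁻¹ * t, by rw [mul_smul, ← hr, inv_smul_smul₀ hr0]⟩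
      · exact ⟨u, huU, hu0, hqu, hbu, hin⟩
    obtain ⟨t, ht, hqt, hut⟩ := OrthTools.exists_partner hUn hu hu0 hqu
    -- an axis in `U` which sees `b`
    obtain ⟨a', ha', hua', hba'⟩ : ∃ a' ∈ U, polar q u a' = 0 ∧ polar q b a' ≠ 0 := by
      by_contra hc
      push Not at hc
      refine hbn (Submodule.mem_span_singleton.2 ⟨polar q b t, ?_⟩)
      by_contra hne
      obtain ⟨y, hy, hy'⟩ := hUn (b - polar q b t • u) (U.sub_mem hb (U.smul_mem _ hu))
        (fun h => hne (sub_eq_zero.1 h).symm)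
      apply hy'
      have h1 := hc (y - polar q u y • t) (U.sub_mem hy (U.smul_mem _ ht))
        (by rw [polar_sub_right, polar_smul_right, hut, smul_eq_mul, mul_one, sub_self])
      rw [polar_sub_right, polar_smul_right, smul_eq_mul] at h1
      rw [polar_sub_left, polar_smul_left, smul_eq_mul]
      linear_combination h1
    have he := hEU u hu a' ha' hqu hua'
    have hew : app (eich q u a') w = w := by
      rw [app_eich hqu hua', hWU w hw u hu, hWU w hw a' ha']; simp
    have heb : app (eich q u a') b = b + (-polar q b a') • u := by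
      rw [app_eich hqu hua', hbu]; simp
    have h1 := M.mul_mem (M.mul_mem he hEb) (M.inv_mem he)
    rw [eich_conj hqw hwb, hew, heb] at h1
    have h2 := M.mul_mem (M.inv_mem hEb) h1
    rw [← eich_add hqw hwb (by rw [polar_smul_right, hWU w hw u hu, smul_zero]), inv_mul_cancel_left] at h2
    refine ⟨u, hu, hu0, hqu, polar q b a' • w, by rw [polar_smul_right, hUW u hu w hw, smul_zero], fun hin => ?_, ?_⟩
    · exact hw0 (Submodule.disjoint_def.1 hdisj w hw ((U.smul_mem_iff hba').1 hin))
    · convert h2 using 1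
      refine ext_app fun x => ?_
      rw [app_eich hqu (by rw [polar_smul_right, hUW u hu w hw, smul_zero]),
        app_eich hqw (by rw [polar_smul_right, hWU w hw u hu, smul_zero]), polar_smul_right, polar_smul_right,
        QuadraticMap.map_smul, QuadraticMap.map_smul, hqw, hqu]
      simp only [smul_eq_mul]
      module
  set Z := U ⊓ OrthTools.orth q (Submodule.span F ({v, c} : Set (ι → F))) with hZdef
  have hdim : ∀ (X : Submodule F (ι → F)) (x y : ι → F), Module.finrank F X ≤
      Module.finrank F ↥(X ⊓ OrthTools.orth q (Submodule.span F ({x, y} : Set (ι → F)))) + 2 := by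
    intro X x y
    have h1 := Submodule.finrank_sup_add_finrank_inf_eq X (OrthTools.orth q (Submodule.span F ({x, y} : Set (ι → F))))
    have h2 := Submodule.finrank_le (X ⊔ OrthTools.orth q (Submodule.span F ({x, y} : Set (ι → F))))
    have h3 := OrthTools.finrank_orth hq (Submodule.span F ({x, y} : Set (ι → F)))
    have h4 := finrank_pair_le (F := F) x y
    rw [Module.finrank_fintype_fun_eq_card] at h2
    omega
  have hfix : ∀ z ∈ Z, app (eich q v c) z = z := fun z hz => by
    obtain ⟨h1, h2⟩ := mem_orth_pair.1 hz.2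
    rw [app_eich hqv hvc, polar_comm (f := ⇑q) z v, polar_comm (f := ⇑q) z c, h1, h2]
    simp
  obtain ⟨u, hu, hu0, hqu, a₀, hua₀, ha₀, hEa₀⟩ : ∃ u ∈ U, u ≠ 0 ∧ q u = 0 ∧
      ∃ a, polar q u a = 0 ∧ a ∉ U ∧ eich q u a ∈ M := by
    by_cases hk : ∃ u ∈ U, u ≠ 0 ∧ q u = 0 ∧ app (eich q v c) u ∈ U
    · exact hgood _ hhM ⟨x₁, hx₁, hhx₁⟩ hk
    push Not at hk
    have hU5 : Module.finrank F U < 5 := by
      by_contra h5
      obtain ⟨z, hz, hz0, hqz⟩ := OrthTools.exists_singular hq Z (by have := hdim U v c; rw [← hZdef] at this; omega)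
      exact hk z hz.1 hz0 hqz (by rw [hfix z hz]; exact hz.1)
    obtain ⟨m, hmU, hmd, hmq⟩ := hplus hU5
    obtain ⟨m₁, m₂, hm₁, hm₂, hind⟩ : ∃ m₁ m₂, m₁ ∈ m ∧ m₂ ∈ m ∧
        ∀ r s : F, r • m₁ + s • m₂ = 0 → r = 0 ∧ s = 0 := by
      let bm := Module.finBasisOfFinrankEq F m hmd
      refine ⟨bm 0, bm 1, (bm 0).2, (bm 1).2, fun r s h => ?_⟩
      have h' : ∀ i, ![r, s] i = 0 := Fintype.linearIndependent_iff.1 bm.linearIndependent ![r, s]
        (by rw [Fin.sum_univ_two]; exact Subtype.ext (by simpa using h))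
      exact ⟨h' 0, h' 1⟩
    set h := eich q v c with hh
    set l₁ := app h m₁ with hl₁
    set l₂ := app h m₂ with hl₂
    have hqm₁ := hmq m₁ hm₁
    have hm12 := OrthClasses.polar_of_singular hmq hm₁ hm₂
    have hql₁ : q l₁ = 0 := by rw [hl₁, Q_app, hqm₁]
    have hql₂ : q l₂ = 0 := by rw [hl₂, Q_app, hmq m₂ hm₂]
    have hl12 : polar q l₁ l₂ = 0 := by rw [hl₁, hl₂, polar_app, hm12]
    have hl11 : polar q l₁ l₁ = 0 := by rw [polar_self', hql₁, mul_zero]
    have hl22 : polar q l₂ l₂ = 0 := by rw [polar_self', hql₂, mul_zero]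
    have hlind : ∀ r s : F, r • l₁ + s • l₂ = 0 → r = 0 ∧ s = 0 := fun r s hrs => hind r s (app_injective h (by
      rw [map_zero, map_add, map_smul, map_smul]; exact hrs))
    have hlU : ∀ r s : F, r • l₁ + s • l₂ ∈ U → r = 0 ∧ s = 0 := by
      intro r s hrs
      refine hind r s (by_contra fun hne => ?_)
      refine hk (r • m₁ + s • m₂) (U.add_mem (U.smul_mem _ (hmU hm₁)) (U.smul_mem _ (hmU hm₂))) hne
        (hmq _ (m.add_mem (m.smul_mem _ hm₁) (m.smul_mem _ hm₂))) ?_
      rw [map_add, map_smul, map_smul]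
      exact hrs
    have hkM : eich q l₁ l₂ ∈ M := by
      have h1 := M.mul_mem (M.mul_mem hhM (hEU m₁ (hmU hm₁) m₂ (hmU hm₂) hqm₁ hm12)) (M.inv_mem hhM)
      rwa [eich_conj hqm₁ hm12] at h1
    set k := eich q l₁ l₂ with hk'
    have happ : ∀ x, app k x = x + (polar q x l₁ • l₂ + (-polar q x l₂) • l₁) := fun x => by
      rw [hk', app_eich hql₁ hl12, hql₂, zero_mul, sub_zero, add_assoc]
    -- vectors whose image stays inside
    have hperp : ∀ x ∈ U, app k x ∈ U → polar q x l₁ = 0 ∧ polar q x l₂ = 0 := by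
      intro x hx hxk
      rw [happ] at hxk
      obtain ⟨h1, h2⟩ := hlU (-polar q x l₂) (polar q x l₁) (by
        rw [add_comm]; exact (U.add_mem_iff_right hx).1 hxk)
      exact ⟨h2, neg_eq_zero.1 h1⟩
    have hZ' : ∀ X : Submodule F (ι → F), ∀ z ∈ X ⊓ OrthTools.orth q (Submodule.span F ({l₁, l₂} : Set (ι → F))),
        polar q z l₁ = 0 ∧ polar q z l₂ = 0 ∧ app k z = z := by
      intro X z hz
      obtain ⟨h1, h2⟩ := mem_orth_pair.1 hz.2
      rw [polar_comm] at h1 h2
      exact ⟨h1, h2, by rw [happ, h1, h2]; simp⟩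
    have hkx : ∃ x ∈ U, app k x ∉ U := by
      by_contra hall'
      push Not at hall'
      -- then the line lies in `W`
      have hlW : ∀ l, (l = l₁ ∨ l = l₂) → l ∈ W := by
        intro l hl
        rw [← CfsgLib.GeomClasses.OrthSubspace.orth_orth hq W]
        refine OrthTools.mem_orth.2 fun x hx => ?_
        obtain ⟨h1, h2⟩ := hperp x hx (hall' x hx)
        rcases hl with rfl | rfl
        · exact h1
        · exact h2
      let g : (Fin 2 → F) →ₗ[F] (ι → F) :=
        { toFun := fun r => r 0 • l₁ + r 1 • l₂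
          map_add' := fun a b => by simp only [Pi.add_apply]; module
          map_smul' := fun a b => by simp only [Pi.smul_apply, RingHom.id_apply, smul_eq_mul]; module }
      have hg : Function.Injective g := (injective_iff_map_eq_zero _).2 fun r hr => by
        obtain ⟨h1, h2⟩ := hlind _ _ hr
        funext i; fin_cases i <;> assumption
      have hgW : LinearMap.range g ≤ W := by
        rintro _ ⟨r, rfl⟩
        exact W.add_mem (W.smul_mem _ (hlW l₁ (Or.inl rfl))) (W.smul_mem _ (hlW l₂ (Or.inr rfl)))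
      have hd4 : Module.finrank F ↥(LinearMap.range g ⊔ m) = 4 := by
        have h1 := Submodule.finrank_sup_add_finrank_inf_eq (LinearMap.range g) m
        rw [(hdisj.mono hgW hmU).eq_bot, finrank_bot, LinearMap.finrank_range_of_inj hg, hmd,
          Module.finrank_fintype_fun_eq_card, Fintype.card_fin] at h1
        omega
      refine absurd hd4 (ne_of_lt (hminus hU5 _ fun x hx => ?_))
      obtain ⟨a, ha, b, hb, rfl⟩ := Submodule.mem_sup.1 hx
      obtain ⟨r, rfl⟩ := ha
      rw [QuadraticMap.map_add ⇑q, hmq b hb, hWU _ (hgW ⟨r, rfl⟩) b (hmU hb)]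
      show q (r 0 • l₁ + r 1 • l₂) + 0 + 0 = 0
      simp [QuadraticMap.map_add ⇑q, QuadraticMap.map_smul, polar_smul_left, polar_smul_right, hql₁, hql₂, hl12]
    by_cases hk2 : ∃ u ∈ U, u ≠ 0 ∧ q u = 0 ∧ app k u ∈ U
    · exact hgood k hkM hkx hk2
    push Not at hk2
    set Zk := U ⊓ OrthTools.orth q (Submodule.span F ({l₁, l₂} : Set (ι → F))) with hZk
    set Rk := W ⊓ OrthTools.orth q (Submodule.span F ({l₁, l₂} : Set (ι → F))) with hRk
    have hZa : ∀ z ∈ Zk, q z = 0 → z = 0 := fun z hz hqz => by_contra fun h0 =>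
      hk2 z hz.1 h0 hqz (by rw [(hZ' U z hz).2.2]; exact hz.1)
    have hZd : Module.finrank F Zk = 2 := by
      refine le_antisymm (not_lt.1 fun h3 => ?_) (by have := hdim U l₁ l₂; rw [← hZk] at this; omega)
      obtain ⟨z, hz, hz0, hqz⟩ := OrthTools.exists_singular hq Zk h3
      exact hz0 (hZa z hz hqz)
    by_cases hR : ∃ w ∈ Rk, w ≠ 0 ∧ q w = 0
    · obtain ⟨w, hw, hw0, hqw⟩ := hR
      have hwW : w ∈ W := hw.1
      obtain ⟨-, -, hkw⟩ := hZ' W w hw
      by_cases hex' : ∃ x ∈ W, polar q w x = 0 ∧ app k x ∉ W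
      · obtain ⟨x, hx, hwx, hxk⟩ := hex'
        have h1 := M.mul_mem (M.mul_mem hkM (hEW w hwW x hx hqw hwx)) (M.inv_mem hkM)
        rw [eich_conj hqw hwx, hkw] at h1
        exact hswap w hwW hw0 hqw _ (by rw [← hkw, polar_app]; exact hwx) hxk h1
      push Not at hex'
      exfalso
      -- the components in `U` are independent
      have hUind : ∀ r s : F, r • l₁ + s • l₂ ∈ W → r = 0 ∧ s = 0 := by
        intro r s hrs
        have hor : ∀ x ∈ U, r * polar q x l₁ + s * polar q x l₂ = 0 := fun x hx => by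
          have := hUW x hx _ hrs
          rwa [polar_add_right, polar_smul_right, polar_smul_right] at this
        by_contra hne
        obtain ⟨l, hl⟩ : ∃ l, ∀ x ∈ U, polar q x l = 0 → x ∈ Zk := by
          by_cases hr : r = 0
          · have hs : s ≠ 0 := fun hs => hne ⟨hr, hs⟩
            refine ⟨l₁, fun x hx h1 => ⟨hx, mem_orth_pair.2 ⟨by rwa [polar_comm], ?_⟩⟩⟩
            have := hor x hx
            rw [hr, zero_mul, zero_add, mul_eq_zero] at this
            rw [polar_comm]; exact this.resolve_left hs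
          · refine ⟨l₂, fun x hx h1 => ⟨hx, mem_orth_pair.2 ⟨?_, by rwa [polar_comm]⟩⟩⟩
            have := hor x hx
            rw [h1, mul_zero, add_zero, mul_eq_zero] at this
            rw [polar_comm]; exact this.resolve_left hr
        have h1 := Submodule.finrank_mono
          (show U ⊓ OrthTools.orth q (Submodule.span F ({l} : Set (ι → F))) ≤ Zk from fun x hx =>
            hl x hx.1 (by rw [polar_comm]; exact (OrthTools.mem_inf_orth hx).2))
        have h2 : Module.finrank F U ≤ _ + 1 := OrthTools.finrank_inf_orth hq U l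
        omega
      obtain ⟨t, ht, -, hwt⟩ := OrthTools.exists_partner hW hwW hw0 hqw
      -- so both components in `W` are multiples of `w`
      have hlw : ∀ x ∈ W, polar q w x = 0 → polar q x l₁ = 0 ∧ polar q x l₂ = 0 := by
        intro x hx hwx
        have hxk := hex' x hx hwx
        rw [happ] at hxk
        obtain ⟨h1, h2⟩ := hUind (-polar q x l₂) (polar q x l₁) (by
          rw [add_comm]; exact (W.add_mem_iff_right hx).1 hxk)
        exact ⟨h2, neg_eq_zero.1 h1⟩
      have hmult : ∀ l, (∀ x ∈ W, polar q w x = 0 → polar q x l = 0) → l - polar q t l • w ∈ U := by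
        intro l hl
        refine OrthTools.mem_orth.2 fun y hy => ?_
        have h1 := hl (y - polar q w y • t) (W.sub_mem hy (W.smul_mem _ ht))
          (by rw [polar_sub_right, polar_smul_right, hwt, smul_eq_mul, mul_one, sub_self])
        rw [polar_sub_left, polar_smul_left, smul_eq_mul] at h1
        rw [polar_sub_right, polar_smul_right, smul_eq_mul, polar_comm (f := ⇑q) y w]
        linear_combination h1
      have h1 := hmult l₁ fun x hx hwx => (hlw x hx hwx).1
      have h2 := hmult l₂ fun x hx hwx => (hlw x hx hwx).2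
      set A := polar q t l₁
      set B := polar q t l₂
      have hzero : B • (l₁ - A • w) + (-A) • (l₂ - B • w) = B • l₁ + (-A) • l₂ := by module
      obtain ⟨hB, hA⟩ := hlU B (-A) (by rw [← hzero]; exact U.add_mem (U.smul_mem _ h1) (U.smul_mem _ h2))
      rw [neg_eq_zero] at hA
      rw [hA, zero_smul, sub_zero] at h1
      exact one_ne_zero (hlU 1 0 (by rw [one_smul, zero_smul, add_zero]; exact h1)).1
    push Not at hR
    exfalso
    have hRa : ∀ z ∈ Rk, q z = 0 → z = 0 := fun z hz hqz => by_contra fun h0 => hR z hz h0 hqz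
    have hRd : Module.finrank F Rk = 2 := by
      refine le_antisymm (not_lt.1 fun h3 => ?_) (by have := hdim W l₁ l₂; rw [← hRk] at this; omega)
      obtain ⟨z, hz, hz0, hqz⟩ := OrthTools.exists_singular hq Rk h3
      exact hR z hz hz0 hqz
    have hZR : ∀ z ∈ Zk, ∀ r ∈ Rk, polar q z r = 0 := fun z hz r hr => hUW z hz.1 r hr.1
    obtain ⟨X, hXle, hXd, hXq⟩ := exists_singular_plane (hdisj.symm.mono inf_le_left inf_le_left) hZR hZd hZa hRd hRa
    let g : (Fin 2 → F) →ₗ[F] (ι → F) :=
      { toFun := fun r => r 0 • l₁ + r 1 • l₂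
        map_add' := fun a b => by simp only [Pi.add_apply]; module
        map_smul' := fun a b => by simp only [Pi.smul_apply, RingHom.id_apply, smul_eq_mul]; module }
    have hg : Function.Injective g := (injective_iff_map_eq_zero _).2 fun r hr => by
      obtain ⟨h1, h2⟩ := hlind _ _ hr
      funext i; fin_cases i <;> assumption
    have hgperp : ∀ r : Fin 2 → F, ∀ y, (y ∈ Zk ∨ y ∈ Rk) → polar q (g r) y = 0 := by
      intro r y hy
      obtain ⟨h1, h2⟩ : polar q y l₁ = 0 ∧ polar q y l₂ = 0 := by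
        rcases hy with hy | hy
        · exact ⟨(hZ' U y hy).1, (hZ' U y hy).2.1⟩
        · exact ⟨(hZ' W y hy).1, (hZ' W y hy).2.1⟩
      show polar q (r 0 • l₁ + r 1 • l₂) y = 0
      rw [polar_add_left, polar_smul_left, polar_smul_left, polar_comm (f := ⇑q) l₁ y, polar_comm (f := ⇑q) l₂ y,
        h1, h2]
      simp
    have hgX : ∀ r, ∀ y ∈ X, polar q (g r) y = 0 := fun r y hy => by
      obtain ⟨z, hz, s, hs, rfl⟩ := Submodule.mem_sup.1 (hXle hy)
      rw [polar_add_right, hgperp r z (Or.inl hz), hgperp r s (Or.inr hs), add_zero]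
    have hgd : Disjoint (LinearMap.range g) X := Submodule.disjoint_def.2 fun y hy hyX => by
      obtain ⟨r, hr⟩ := hy
      obtain ⟨z, hz, s, hs, hzs⟩ := Submodule.mem_sup.1 (hXle hyX)
      have hz0 : z = 0 := by
        by_contra h0
        obtain ⟨z', hz', hzz'⟩ := plane_nondegenerate hZd hZa z hz h0
        apply hzz'
        have := hgperp r z' (Or.inl hz')
        rwa [hr, ← hzs, polar_add_left, polar_comm (f := ⇑q) s z', hZR z' hz' s hs, add_zero] at this
      have hs0 : s = 0 := by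
        by_contra h0
        obtain ⟨s', hs', hss'⟩ := plane_nondegenerate hRd hRa s hs h0
        apply hss'
        have := hgperp r s' (Or.inr hs')
        rwa [hr, ← hzs, polar_add_left, hZR z hz s' hs', zero_add] at this
      rw [← hzs, hz0, hs0, add_zero]
    have hd4 : Module.finrank F ↥(LinearMap.range g ⊔ X) = 4 := by
      have h1 := Submodule.finrank_sup_add_finrank_inf_eq (LinearMap.range g) X
      rw [hgd.eq_bot, finrank_bot, LinearMap.finrank_range_of_inj hg, hXd,
        Module.finrank_fintype_fun_eq_card, Fintype.card_fin] at h1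
      omega
    refine absurd hd4 (ne_of_lt (hminus hU5 _ fun x hx => ?_))
    obtain ⟨a, ⟨r, rfl⟩, b, hb, rfl⟩ := Submodule.mem_sup.1 hx
    rw [QuadraticMap.map_add ⇑q, hXq b hb, hgX r b hb]
    show q (r 0 • l₁ + r 1 • l₂) + 0 + 0 = 0
    simp [QuadraticMap.map_add ⇑q, QuadraticMap.map_smul, polar_smul_left, polar_smul_right, hql₁, hql₂, hl12]
  obtain ⟨w₀, hw₀, aU, haU, hwa⟩ := hsplit a₀
  have hw₀0 : w₀ ≠ 0 := fun h => ha₀ (by rw [← hwa, h, zero_add]; exact haU)
  have huaU : polar q u aU = 0 := by rwa [← hwa, polar_add_right, hUW u hu w₀ hw₀, zero_add] at hua₀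
  have hw₀M : eich q u w₀ ∈ M := by
    have h1 := M.mul_mem hEa₀ (hEU u hu _ (U.neg_mem haU) hqu (by rw [polar_neg_right, huaU, neg_zero]))
    rwa [eich_add hqu hua₀ (by rw [polar_neg_right, huaU, neg_zero]), ← hwa, add_neg_cancel_right] at h1
  -- moving singular vectors of `U`
  have hmove : ∀ x ∈ U, ∀ y ∈ U, q x = 0 → q y = 0 → polar q x y ≠ 0 →
      ∃ k ∈ M, (∀ z ∈ W, app k z = z) ∧ app k x = y := by
    intro x hx y hy hqx hqy hxy
    set e := polar q x y with he
    obtain ⟨Y, hYU, hYd, hY, -, hYn⟩ := OrthClasses.remove_pair hq hUn hx (U.smul_mem e⁻¹ hy) hqx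
      (by rw [QuadraticMap.map_smul, hqy, smul_zero])
      (by rw [polar_smul_right, ← he, smul_eq_mul, inv_mul_cancel₀ hxy])
    obtain ⟨w, hw, hqw⟩ := exists_value_plane hYn (by omega) (-e⁻¹)
    obtain ⟨hxw, hyw⟩ := hY w hw
    rw [polar_smul_left, smul_eq_zero_iff_right (inv_ne_zero hxy)] at hyw
    set p := e⁻¹ • x + e⁻¹ • y + w with hp
    have hpU : p ∈ U := U.add_mem (U.add_mem (U.smul_mem _ hx) (U.smul_mem _ hy)) (hYU hw)
    have hqp : q p = 0 := by
      rw [hp]
      simp only [QuadraticMap.map_add ⇑q, QuadraticMap.map_smul, polar_add_left, polar_smul_left,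
        polar_smul_right, hqx, hqy, hqw, hxw, hyw, ← he, smul_eq_mul]
      field_simp
      ring
    have hxp : polar q x p = 1 := by
      rw [hp]
      simp [polar_add_right, polar_smul_right, polar_self', hqx, hxw, ← he, hxy]
    have hyp : polar q y p = 1 := by
      rw [hp]
      simp [polar_add_right, polar_smul_right, polar_self', hqy, hyw, polar_comm (f := ⇑q) y x, ← he, hxy]
    obtain ⟨h1, h2⟩ := app_eich_move hqp hqx hqy hxp hyp
    refine ⟨_, hEU p hpU _ (U.sub_mem hy hx) hqp h1, fun z hz => ?_, h2⟩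
    rw [app_eich hqp h1, hWU z hz p hpU, hWU z hz _ (U.sub_mem hy hx)]
    simp
  obtain ⟨u', hu'U, hqu', huu'⟩ := OrthTools.exists_partner hUn hu hu0 hqu
  obtain ⟨k₁, hk₁, hk₁W, hk₁u⟩ := hmove u hu u' hu'U hqu hqu' (by rw [huu']; exact one_ne_zero)
  -- the axes inside `W`
  let S : Submodule F (ι → F) :=
    { carrier := {w | w ∈ W ∧ eich q u w ∈ M}
      zero_mem' := ⟨W.zero_mem, by rw [← zero_smul F u, eich_smul_self hqu]; exact M.one_mem⟩
      add_mem' := by
        rintro a b ⟨ha, ha'⟩ ⟨hb, hb'⟩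
        exact ⟨W.add_mem ha hb, by rw [← eich_add hqu (hUW u hu a ha) (hUW u hu b hb)]; exact M.mul_mem ha' hb'⟩
      smul_mem' := by
        rintro t w ⟨hw, hw'⟩
        refine ⟨W.smul_mem t hw, ?_⟩
        rcases eq_or_ne t 0 with rfl | ht
        · rw [zero_smul, ← zero_smul F u, eich_smul_self hqu]; exact M.one_mem
        obtain ⟨k₂, hk₂, hk₂W, hk₂u⟩ := hmove u' hu'U (t • u) (U.smul_mem t hu) hqu'
          (by rw [QuadraticMap.map_smul, hqu, smul_zero])
          (by rw [polar_smul_right, polar_comm, huu', smul_eq_mul, mul_one]; exact ht)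
        have h1 := M.mul_mem (M.mul_mem (M.mul_mem hk₂ hk₁) hw') (M.inv_mem (M.mul_mem hk₂ hk₁))
        rwa [eich_conj hqu (hUW u hu w hw), app_mul, app_mul, hk₁u, hk₂u, hk₁W w hw, hk₂W w hw,
          eich_smul_left hqu (hUW u hu w hw)] at h1 }
  have hw₀S : w₀ ∈ S := ⟨hw₀, hw₀M⟩
  have hSW : S ≤ W := fun w hw => hw.1
  have hinvS : ∀ k ∈ M, (∀ x ∈ W, app k x ∈ W) → app k u = u → ∀ w ∈ S, app k w ∈ S := by
    intro k hk hkW hku w hw
    refine ⟨hkW w hw.1, ?_⟩
    have := M.mul_mem (M.mul_mem hk hw.2) (M.inv_mem hk)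
    rwa [eich_conj hqu (hUW u hu w hw.1), hku] at this
  have hWS : W ≤ S := by
    by_cases hk3 : 3 ≤ Module.finrank F W
    · obtain ⟨y, hy, hwy⟩ := hW w₀ hw₀ hw₀0
      refine absorb hq hW hk3 (fun w hw a ha hqw hwa s hs => hinvS _ (hEW w hw a ha hqw hwa)
        (fun x hx => ?_) ?_ s hs) hw₀S hy hwy
      · rw [app_eich hqw hwa]
        exact W.add_mem (W.add_mem hx (W.smul_mem _ ha)) (W.smul_mem _ hw)
      · rw [app_eich hqw hwa, hUW u hu w hw, hUW u hu a ha]
        simp
    have hpos : 0 < Module.finrank F W := Module.finrank_pos_iff_exists_ne_zero.2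
      ⟨⟨w₀, hw₀⟩, fun h => hw₀0 (congrArg Subtype.val h)⟩
    by_contra hne
    have hlt : Module.finrank F S < Module.finrank F W :=
      Submodule.finrank_lt_finrank_of_lt (lt_of_le_of_ne hSW fun he => hne he.ge)
    have hS1 : Submodule.span F {w₀} ≤ S := (Submodule.span_singleton_le_iff_mem _ _).2 hw₀S
    have h1 := Submodule.finrank_mono hS1
    rw [finrank_span_singleton hw₀0] at h1
    have hS : S = Submodule.span F {w₀} := (Submodule.eq_of_le_of_finrank_le hS1 (by
      rw [finrank_span_singleton hw₀0]; omega)).symm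
    have hrefl : ∀ x ∈ W, q x ≠ 0 → ∀ s ∈ S, app (refl q x) s ∈ S := by
      intro x hx hqx s hs
      obtain ⟨Y, hYU, hYd, hY, -, hYn⟩ := OrthClasses.remove_pair hq hUn hu hu'U hqu hqu' huu'
      obtain ⟨b, hb, hqb⟩ := exists_value_plane hYn (by omega) (q x)
      have hkM : refl q x * refl q b ∈ M := hle ⟨mem_stab.2 fun z hz => by
        rw [app_mul, app_refl_of_ortho (hWU z hz b (hYU hb)), app_refl]
        exact W.sub_mem hz (W.smul_mem _ hx), pair_mem hq hn7 hqx hqb.symm⟩
      have h2 := hinvS _ hkM (fun z hz => by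
        rw [app_mul, app_refl_of_ortho (hWU z hz b (hYU hb)), app_refl]
        exact W.sub_mem hz (W.smul_mem _ hx))
        (by rw [app_mul, app_refl_of_ortho (hY b hb).1, app_refl_of_ortho (hUW u hu x hx)]) s hs
      rwa [app_mul, app_refl_of_ortho (hWU s hs.1 b (hYU hb))] at h2
    -- vectors pairing non-trivially with `w₀` off its line are singular
    have hsing : ∀ x ∈ W, polar q w₀ x ≠ 0 → x ∉ Submodule.span F {w₀} → q x = 0 := by
      intro x hx hwx hxn
      by_contra hqx
      have h2 := hrefl x hx hqx w₀ hw₀S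
      rw [app_refl, hS] at h2
      have h3 : ((q x)⁻¹ * polar q w₀ x) • x ∈ Submodule.span F ({w₀} : Set (ι → F)) := by
        simpa using Submodule.sub_mem _ (Submodule.mem_span_singleton_self w₀) h2
      exact hxn ((Submodule.smul_mem_iff _ (mul_ne_zero (inv_ne_zero hqx) hwx)).1 h3)
    by_cases hqw₀ : q w₀ = 0
    · obtain ⟨r, hr, hqr, hwr⟩ := OrthTools.exists_partner hW hw₀ hw₀0 hqw₀
      have hqd : q (w₀ - r) = -1 := by
        rw [sub_eq_add_neg, QuadraticMap.map_add ⇑q, QuadraticMap.map_neg, polar_neg_right, hqw₀, hqr, hwr]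
        ring
      have h2 := hrefl (w₀ - r) (W.sub_mem hw₀ hr) (by rw [hqd]; exact neg_ne_zero.2 one_ne_zero) w₀ hw₀S
      rw [app_refl, hqd, polar_sub_right, polar_self', hqw₀, hwr, hS] at h2
      have h3 : r ∈ Submodule.span F ({w₀} : Set (ι → F)) := by
        convert h2 using 1
        norm_num
      obtain ⟨t, rfl⟩ := Submodule.mem_span_singleton.1 h3
      rw [polar_smul_right, polar_self', hqw₀] at hwr
      simp at hwr
    obtain ⟨y, hy, hwy⟩ := hW w₀ hw₀ hw₀0
    by_cases h2 : (2 : F) = 0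
    · set y₁ := (polar q w₀ y)⁻¹ • y with hy₁
      have hwy₁ : polar q w₀ y₁ = 1 := by rw [hy₁, polar_smul_right, smul_eq_mul, inv_mul_cancel₀ hwy]
      have hy₁W : y₁ ∈ W := W.smul_mem _ hy
      clear_value y₁
      have hww : polar q w₀ w₀ = 0 := by rw [polar_self', h2, zero_mul]
      have hval : ∀ μ : F, q y₁ + μ * μ * q w₀ + μ = 0 := by
        intro μ
        have h4 : polar q w₀ (y₁ + μ • w₀) = 1 := by
          rw [polar_add_right, polar_smul_right, hww, hwy₁, smul_zero, add_zero]
        have := hsing (y₁ + μ • w₀) (W.add_mem hy₁W (W.smul_mem μ hw₀))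
          (by rw [h4]; exact one_ne_zero) fun hin => by
            obtain ⟨t, ht⟩ := Submodule.mem_span_singleton.1 hin
            rw [← ht, polar_smul_right, hww, smul_zero] at h4
            exact zero_ne_one h4
        rw [QuadraticMap.map_add ⇑q, QuadraticMap.map_smul, polar_smul_right, polar_comm (f := ⇑q) y₁ w₀, hwy₁] at this
        simpa [smul_eq_mul] using this
      have e0 : q y₁ = 0 := by simpa using hval 0
      have e1 := hval 1
      have hF : (Finset.univ : Finset F) ⊆ {0, 1} := fun μ _ => by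
        have h4 : μ * (μ - 1) = 0 := by
          linear_combination hval μ - (μ * μ) * e1 + (μ * μ - 1) * e0 - μ * h2 + (μ * μ) * h2
        rcases mul_eq_zero.1 h4 with h | h
        · simp [h]
        · simp [sub_eq_zero.1 h]
      have h5 := Finset.card_le_card hF
      rw [Finset.card_univ] at h5
      have h6 : Finset.card ({0, 1} : Finset F) ≤ 2 := Finset.card_le_two
      exact hex ⟨by omega, by omega, y₁, hy₁W,
        fun h0 => one_ne_zero (by rw [← hwy₁, h0, polar_zero_right]), e0⟩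
    · obtain ⟨x₂, hx₂, hx₂n⟩ := SetLike.not_le_iff_exists.1 (show ¬ W ≤ Submodule.span F ({w₀} : Set (ι → F)) from
        fun hle' => hne (hS ▸ hle'))
      have h2q : 2 * q w₀ ≠ 0 := mul_ne_zero h2 hqw₀
      set b := x₂ - (polar q w₀ x₂ / (2 * q w₀)) • w₀ with hb
      have hwb : polar q w₀ b = 0 := by
        rw [hb, polar_sub_right, polar_smul_right, polar_self', smul_eq_mul, div_mul_cancel₀ _ h2q, sub_self]
      have hbW : b ∈ W := W.sub_mem hx₂ (W.smul_mem _ hw₀)
      have hbn : b ∉ Submodule.span F ({w₀} : Set (ι → F)) := fun hin => hx₂n (by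
        have := Submodule.add_mem _ hin (Submodule.smul_mem _ (polar q w₀ x₂ / (2 * q w₀))
          (Submodule.mem_span_singleton_self w₀))
        rwa [hb, sub_add_cancel] at this)
      have hval : ∀ μ : F, μ ≠ 0 → q b + μ * μ * q w₀ = 0 := by
        intro μ hμ
        have := hsing (b + μ • w₀) (W.add_mem hbW (W.smul_mem μ hw₀))
          (by rw [polar_add_right, polar_smul_right, polar_self', hwb, zero_add]; exact mul_ne_zero hμ h2q)
          fun hin => hbn (by simpa using
            Submodule.sub_mem _ hin (Submodule.smul_mem _ μ (Submodule.mem_span_singleton_self w₀)))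
        rw [QuadraticMap.map_add ⇑q, QuadraticMap.map_smul, polar_smul_right, polar_comm (f := ⇑q) b w₀, hwb] at this
        simpa [smul_eq_mul] using this
      have e1 := hval 1 one_ne_zero
      have hF : (Finset.univ : Finset F) ⊆ {0, 1, -1} := fun μ _ => by
        by_cases hμ : μ = 0
        · simp [hμ]
        have h4 : μ * μ = 1 * 1 := mul_right_cancel₀ hqw₀ (by linear_combination hval μ hμ - e1)
        rcases mul_self_eq_mul_self_iff.1 h4 with h | h <;> simp [h]
      have h5 := Finset.card_le_card hF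
      rw [Finset.card_univ] at h5
      have h6 : Finset.card ({0, 1, -1} : Finset F) ≤ 3 := Finset.card_le_three
      refine hex ⟨by omega, by omega, b + w₀, W.add_mem hbW hw₀,
        fun h0 => hbn (Submodule.mem_span_singleton.2 ⟨-1, by rw [eq_neg_of_add_eq_zero_left h0]; simp⟩), ?_⟩
      rw [QuadraticMap.map_add ⇑q, polar_comm (f := ⇑q) b w₀, hwb]
      linear_combination e1
  -- conclusion
  have hfu : Full M u := ⟨hqu, fun a ha => by
    obtain ⟨w, hw, b, hb, rfl⟩ := hsplit a
    have hub : polar q u b = 0 := by rwa [polar_add_right, hUW u hu w hw, zero_add] at ha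
    rw [← eich_add hqu (hUW u hu w hw) hub]
    exact M.mul_mem (hWS hw).2 (hEU u hu b hb hqu hub)⟩
  have hfu' := full_conj hk₁ hfu
  rw [hk₁u] at hfu'
  exact commutator_le_of_pair hq hn7 hfu hfu' (by rw [polar_comm, huu']; exact one_ne_zero)

end CfsgLib.OmegaEight
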